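import Cfsg.Agent.TwoF.Gen.BCub
import Cfsg.Agent.TwoF.SpB.Core
import Cfsg.Agent.TwoF.XL.Abs

/-!
# TwoF SP-A: general tools (helper86)

* `scott` : the inequality of Scott for two generators;
* `cub_of_const` : an offender of order 16 on which the codimension of the elements is constant is cubic;
* `cod_eq_of_order`, `cases_eleven`, `five_ge`, `dim_le_twelve`, `off_or`;
* `Cv` : lifts to covers with a centre of exponent 3; `row88_of_card`.
-/

set_option autoImplicit false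

namespace Cfsg.Agent.TwoF.SpA

open Module Gen Subgroup

section scott

variable {k : Type*} [Field k] {Y : Type*} [Group Y] {V : Type*} [AddCommGroup V] [Module k V]
  {ρ : Representation k Y V} [FiniteDimensional k V]

omit [FiniteDimensional k V] in
theorem cm_closure_le (x y : Y) :
    cm ρ ⊤ (closure {x, y}) ≤ LinearMap.range (ρ x - 1) ⊔ LinearMap.range (ρ y - 1) := by
  refine cm_le_iff.2 fun b hb => ?_
  induction hb using closure_induction with
  | mem g hg =>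
    rintro v -
    rcases hg with rfl | rfl
    · exact Submodule.mem_sup_left ⟨v, rfl⟩
    · exact Submodule.mem_sup_right ⟨v, rfl⟩
  | one => intro v _; simp
  | mul a b _ _ ha hb =>
    intro v _
    have := add_mem (ha (ρ b v) trivial) (hb v trivial)
    rwa [sub_add_sub_cancel, ← rho_mul] at this
  | inv a _ ha =>
    intro v _
    have := neg_mem (ha (ρ a⁻¹ v) trivial)
    rwa [rho_apply_inv, neg_sub] at this

/-- **the inequality of Scott** -/
theorem scott {x y : Y} (h1 : fx ρ (closure {x, y}) = ⊥) (h2 : cm ρ ⊤ (closure {x, y}) = ⊤) :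
    2 * finrank k V ≤ cod ρ (zpowers x) + cod ρ (zpowers y) + cod ρ (zpowers (x * y)) := by
  have e1 : LinearMap.range (ρ x - 1) ⊔ LinearMap.range (ρ y - 1) = ⊤ := top_le_iff.1 (h2 ▸ cm_closure_le x y)
  have e2 := Submodule.finrank_sup_add_finrank_inf_eq (LinearMap.range (ρ x - 1)) (LinearMap.range (ρ y - 1))
  rw [e1, finrank_top, ← cod_zpowers, ← cod_zpowers] at e2
  have e3 := cod_add (ρ := ρ) (zpowers (x * y))
  let f : fx ρ (zpowers (x * y)) →ₗ[k] ↥(LinearMap.range (ρ x - 1) ⊓ LinearMap.range (ρ y - 1)) :=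
    ((ρ y - 1).domRestrict _).codRestrict _ fun v => ⟨⟨-ρ y v, by
      have := mem_fx_zpowers.1 v.2
      rw [rho_mul] at this
      simp [this, neg_add_eq_sub]⟩, ⟨v, rfl⟩⟩
  have hf : Function.Injective f := by
    rw [injective_iff_map_eq_zero]
    intro v hv
    have h3 : ρ y v = v := sub_eq_zero.1 (congrArg Subtype.val hv)
    have h4 := mem_fx_zpowers.1 v.2
    rw [rho_mul, h3] at h4
    have h5 : (v : V) ∈ fx ρ (closure {x, y}) := mem_fx_closure.2 (by rintro s (rfl | rfl) <;> assumption)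
    rw [h1] at h5
    exact Subtype.ext h5
  have e4 := LinearMap.finrank_le_finrank_of_injective hf
  omega

theorem two_mul_cod_le [CharP k 2] {t : Y} (ht : t ^ 2 = 1) : 2 * cod ρ (zpowers t) ≤ finrank k V := by
  have h1 := cod_add (ρ := ρ) (zpowers t)
  have h2 : LinearMap.range (ρ t - 1) ≤ fx ρ (zpowers t) := by
    rintro _ ⟨v, rfl⟩
    exact mem_fx_zpowers'.2 (SpB.sq_zero ht v)
  have h3 := Submodule.finrank_mono h2
  rw [← cod_zpowers] at h3
  omega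

omit [FiniteDimensional k V] in
/-- all the elements of prime order `s` have the same codimension if the Sylow `s`-subgroups have order `s` -/
theorem cod_eq_of_order [Finite Y] {s : ℕ} [hp : Fact s.Prime] (hs : ¬ s ^ 2 ∣ Nat.card Y) {a b : Y} (ha : a ^ s = 1)
    (ha1 : a ≠ 1) (hb : b ^ s = 1) (hb1 : b ≠ 1) : cod ρ (zpowers a) = cod ρ (zpowers b) := by
  have key : ∀ c : Y, c ^ s = 1 → c ≠ 1 → ∃ P : Sylow s Y, (P : Subgroup Y) = zpowers c := fun c hc hc1 => by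
    obtain ⟨P, hP⟩ := (elemAb_isPGroup (elemAb_zpowers hc)).exists_le_sylow
    obtain ⟨n, hn⟩ := IsPGroup.iff_card.1 P.2
    refine ⟨P, (eq_of_le_of_card_ge hP ?_).symm⟩
    rw [Nat.card_zpowers, orderOf_eq_prime hc hc1]
    have h1 : s ^ n ∣ Nat.card Y := hn ▸ card_subgroup_dvd_card _
    have h2 : n ≤ 1 := by
      by_contra e
      exact hs ((pow_dvd_pow s (by omega)).trans h1)
    calc Nat.card P = s ^ n := hn
      _ ≤ s ^ 1 := Nat.pow_le_pow_right hp.out.pos h2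
      _ = s := pow_one s
  obtain ⟨P, hP⟩ := key a ha ha1
  obtain ⟨Q, hQ⟩ := key b hb hb1
  obtain ⟨g, rfl⟩ := MulAction.exists_smul_eq Y P Q
  rw [← hP, ← hQ]
  exact (cod_conj g _).symm

end scott

/-! ### offenders of order 16 -/

section four

variable {k : Type*} [Field k] {V : Type*} [AddCommGroup V] [Module k V]

/-- three commuting endomorphisms of square zero -/
structure Tri (α β γ : End k V) : Prop where
  aa : ∀ u, α (α u) = 0
  bb : ∀ u, β (β u) = 0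
  cc : ∀ u, γ (γ u) = 0
  ba : ∀ u, β (α u) = α (β u)
  ca : ∀ u, γ (α u) = α (γ u)
  cb : ∀ u, γ (β u) = β (γ u)

variable {α β γ δ τ : End k V}

theorem Tri.swap₁ (T : Tri α β γ) : Tri β α γ := ⟨T.bb, T.aa, T.cc, fun u => (T.ba u).symm, T.cb, T.ca⟩

theorem Tri.swap₂ (T : Tri α β γ) : Tri γ α β :=
  ⟨T.cc, T.aa, T.bb, fun u => (T.ca u).symm, fun u => (T.cb u).symm, T.ba⟩

theorem Tri.soc (T : Tri α β γ) {v : V} (hv : α (β (γ v)) ≠ 0) {c₀ c₁ c₂ c₃ : k} {w : V}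
    (hw : w = c₀ • α v + c₁ • α (β v) + c₂ • α (γ v) + c₃ • α (β (γ v))) :
    (β w = 0 → c₀ = 0 ∧ c₂ = 0) ∧ (γ w = 0 → c₀ = 0 ∧ c₁ = 0) := by
  subst hw
  refine ⟨fun h => ?_, fun h => ?_⟩
  · have h1 := congrArg γ h
    simp only [map_add, map_smul, T.ba, T.ca, T.cb, T.bb, T.cc, map_zero, smul_zero, add_zero] at h h1
    have h2 := (smul_eq_zero.1 h1).resolve_right hv
    rw [h2, zero_smul, zero_add] at h
    exact ⟨h2, (smul_eq_zero.1 h).resolve_right hv⟩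
  · have h1 := congrArg β h
    simp only [map_add, map_smul, T.ba, T.ca, T.cb, T.bb, T.cc, map_zero, smul_zero, add_zero] at h h1
    have h2 := (smul_eq_zero.1 h1).resolve_right hv
    rw [h2, zero_smul, zero_add] at h
    exact ⟨h2, (smul_eq_zero.1 h).resolve_right hv⟩

variable [FiniteDimensional k V]

theorem Tri.span (T : Tri α β γ) {v : V} (hv : α (β (γ v)) ≠ 0) (hr : finrank k (LinearMap.range α) ≤ 4) (u : V) :
    ∃ c₀ c₁ c₂ c₃ : k, α u = c₀ • α v + c₁ • α (β v) + c₂ • α (γ v) + c₃ • α (β (γ v)) := by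
  let w : Fin 4 → V := ![α v, α (β v), α (γ v), α (β (γ v))]
  have hi : LinearIndependent k w := by
    rw [Fintype.linearIndependent_iff]
    intro c hc
    rw [Fin.sum_univ_four] at hc
    obtain ⟨h1, h2⟩ := T.soc hv (w := 0) hc.symm
    obtain ⟨h3, h4⟩ := h1 (map_zero _)
    obtain ⟨-, h5⟩ := h2 (map_zero _)
    rw [h3, h4, h5, zero_smul, zero_smul, zero_smul, zero_add, zero_add, zero_add] at hc
    have h6 := (smul_eq_zero.1 hc).resolve_right hv
    intro i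
    fin_cases i <;> assumption
  have hle : Submodule.span k (Set.range w) ≤ LinearMap.range α := by
    rw [Submodule.span_le]
    rintro _ ⟨i, rfl⟩
    fin_cases i <;> exact ⟨_, rfl⟩
  have he := Submodule.eq_of_le_of_finrank_le hle (by rw [finrank_span_eq_card hi]; exact hr)
  obtain ⟨c, hc⟩ := (Submodule.mem_span_range_iff_exists_fun k).1 (he ▸ ⟨u, rfl⟩ : α u ∈ Submodule.span k (Set.range w))
  rw [Fin.sum_univ_four] at hc
  exact ⟨c 0, c 1, c 2, c 3, hc.symm⟩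

theorem Tri.soc' (T : Tri α β γ) {v : V} (hv : α (β (γ v)) ≠ 0) (hr : finrank k (LinearMap.range α) ≤ 4) {u : V}
    (hb : β (α u) = 0) (hc : γ (α u) = 0) : ∃ c : k, α u = c • α (β (γ v)) := by
  obtain ⟨c₀, c₁, c₂, c₃, h⟩ := T.span hv hr u
  obtain ⟨h1, h2⟩ := T.soc hv h
  obtain ⟨h3, h4⟩ := h1 hb
  obtain ⟨-, h5⟩ := h2 hc
  exact ⟨c₃, by rw [h, h3, h4, h5, zero_smul, zero_smul, zero_smul, zero_add, zero_add, zero_add]⟩

theorem Tri.rank_le_two (T : Tri α β γ) (T' : Tri τ β γ) {v : V} (hv : α (β (γ v)) ≠ 0)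
    (ha : finrank k (LinearMap.range α) ≤ 4) (hb : finrank k (LinearMap.range β) ≤ 4)
    (hc : finrank k (LinearMap.range γ) ≤ 4) (ht : finrank k (LinearMap.range τ) ≤ 4)
    (hτ : ∀ u, τ u = δ u + α u + δ (α u)) (da : ∀ u, δ (α u) = α (δ u)) (db : ∀ u, δ (β u) = β (δ u))
    (dc : ∀ u, δ (γ u) = γ (δ u)) (dab : ∀ u, δ (α (β u)) = 0) (dac : ∀ u, δ (α (γ u)) = 0)
    (dbc : ∀ u, δ (β (γ u)) = 0) : finrank k (LinearMap.range δ) ≤ 2 := by
  have hv₁ : β (α (γ v)) ≠ 0 := by rwa [T.ba]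
  have hv₂ : γ (α (β v)) ≠ 0 := by rwa [T.ca, T.cb]
  have hτv : τ (β (γ v)) = α (β (γ v)) := by rw [hτ, dbc, dab, zero_add, add_zero]
  obtain ⟨a, h1⟩ := T.soc' hv ha (u := δ v) (by rw [T.ba, ← db, ← da, dab]) (by rw [T.ca, ← dc, ← da, dac])
  obtain ⟨b, h2⟩ := T.swap₁.soc' hv₁ hb (u := δ v) (by rw [← db, ← da, dab]) (by rw [T.cb, ← dc, ← db, dbc])
  obtain ⟨c, h3⟩ := T.swap₂.soc' hv₂ hc (u := δ v) (by rw [← dc, ← da, dac]) (by rw [← dc, ← db, dbc])
  rw [← da] at h1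
  rw [← db, T.ba] at h2
  rw [← dc, T.ca, T.cb] at h3
  have key : LinearMap.range δ ≤ Submodule.span k {δ v, α (β (γ v))} := by
    rintro _ ⟨u, rfl⟩
    obtain ⟨c₀, c₁, c₂, c₃, e1⟩ := T.span hv ha u
    obtain ⟨u₁, hu₁⟩ : ∃ u₁, u₁ = u - (c₀ • v + c₁ • β v + c₂ • γ v + c₃ • β (γ v)) := ⟨_, rfl⟩
    have a1 : α u₁ = 0 := by simp only [hu₁, map_sub, map_add, map_smul, e1, sub_self]
    obtain ⟨d₀, d₁, d₂, d₃, e2⟩ := T.swap₁.span hv₁ hb u₁
    obtain ⟨f1, f2⟩ := (T.swap₁.soc hv₁ e2).1 (by rw [← T.ba, a1, map_zero])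
    rw [f1, f2, zero_smul, zero_smul, zero_add, add_zero] at e2
    obtain ⟨u₂, hu₂⟩ : ∃ u₂, u₂ = u₁ - (d₁ • α v + d₃ • α (γ v)) := ⟨_, rfl⟩
    have a2 : α u₂ = 0 := by simp only [hu₂, map_sub, map_add, map_smul, a1, T.aa, smul_zero, add_zero, sub_self]
    have b2 : β u₂ = 0 := by simp only [hu₂, map_sub, map_add, map_smul, e2, sub_self]
    obtain ⟨g, e3⟩ := T.swap₂.soc' hv₂ hc (u := u₂) (by rw [← T.ca, a2, map_zero]) (by rw [← T.cb, b2, map_zero])
    obtain ⟨u₃, hu₃⟩ : ∃ u₃, u₃ = u₂ - g • α (β v) := ⟨_, rfl⟩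
    have a3 : α u₃ = 0 := by simp only [hu₃, map_sub, map_smul, a2, T.aa, smul_zero, sub_self]
    have b3 : β u₃ = 0 := by simp only [hu₃, map_sub, map_smul, b2, T.ba, T.bb, map_zero, smul_zero, sub_self]
    have c3 : γ u₃ = 0 := by simp only [hu₃, map_sub, map_smul, e3, sub_self]
    obtain ⟨l, e4⟩ := T'.soc' (hτv ▸ hv) ht (u := u₃) (by rw [T'.ba, b3, map_zero]) (by rw [T'.ca, c3, map_zero])
    rw [hτv, hτ, a3, map_zero, add_zero, add_zero] at e4
    have e5 : u = u₃ + g • α (β v) + (d₁ • α v + d₃ • α (γ v)) + (c₀ • v + c₁ • β v + c₂ • γ v + c₃ • β (γ v)) := by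
      rw [hu₃, sub_add_cancel, hu₂, sub_add_cancel, hu₁, sub_add_cancel]
    refine Submodule.mem_span_pair.2 ⟨c₀, l + d₁ * a + c₁ * b + c₂ * c, ?_⟩
    rw [e5]
    simp only [map_add, map_smul, e4, dab, dac, dbc, h1, h2, h3, smul_zero, add_zero, add_smul, mul_smul]
    abel
  classical
  refine (Submodule.finrank_mono key).trans ?_
  have := finrank_span_finset_le_card (R := k) ({δ v, α (β (γ v))} : Finset V)
  rw [Set.finrank, Finset.coe_pair] at this
  exact this.trans Finset.card_le_two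

end four

section two

variable {Y : Type*} [Group Y] {V : Type*} [AddCommGroup V] [Module (ZMod 2) V] [Finite V]
  {ρ : Representation (ZMod 2) Y V}

/-- **an offender of order 16 on which the codimension of the elements is constant is cubic** -/
theorem cub_of_const {A : Subgroup Y} [Finite A] (hA : IsElementaryAbelian 2 A) (hc : Nat.card A = 16)
    (h8 : cod ρ A ≤ 8) (h3 : ∀ t ∈ A, t ≠ 1 → 3 ≤ cod ρ (zpowers t))
    (he : ∀ s ∈ A, ∀ t ∈ A, s ≠ 1 → t ≠ 1 → cod ρ (zpowers s) = cod ρ (zpowers t)) : Cub ρ A := by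
  by_contra hn
  obtain ⟨d, hd, hd1, h4, -, h5⟩ := rank_four hA hc h8 hn
  have h6 : ∀ t ∈ A, finrank (ZMod 2) (LinearMap.range (ρ t - 1)) ≤ 4 := fun t ht => by
    rw [← cod_zpowers]
    by_cases e : t = 1
    · rw [e, zpowers_one_eq_bot, cod_bot]; omega
    · rw [he t ht d hd e hd1]; omega
  have hT : ∀ a ∈ A, ∀ b ∈ A, ∀ c ∈ A, Tri (ρ a - 1) (ρ b - 1) (ρ c - 1) := fun a ha b hb c hc =>
    ⟨SpB.sq_zero (hA.2 a ha), SpB.sq_zero (hA.2 b hb), SpB.sq_zero (hA.2 c hc),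
      sub_one_comm (elemAb_comm hA hb ha), sub_one_comm (elemAb_comm hA hc ha), sub_one_comm (elemAb_comm hA hc hb)⟩
  unfold Cub at hn
  push Not at hn
  obtain ⟨a, ha, b, hb, c, hc, h7⟩ := hn
  obtain ⟨v, hv⟩ : ∃ v, (ρ a - 1) ((ρ b - 1) ((ρ c - 1) v)) ≠ 0 := by
    by_contra e
    push Not at e
    exact h7 (LinearMap.ext e)
  have h9 := (hT a ha b hb c hc).rank_le_two (δ := ρ d - 1) (hT _ (mul_mem hd ha) b hb c hc) hv (h6 a ha) (h6 b hb)
    (h6 c hc) (h6 _ (mul_mem hd ha)) (mul_sub_one d a) (sub_one_comm (elemAb_comm hA hd ha))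
    (sub_one_comm (elemAb_comm hA hd hb)) (sub_one_comm (elemAb_comm hA hd hc)) (h5 a ha b hb) (h5 a ha c hc)
    (h5 b hb c hc)
  rw [← cod_zpowers] at h9
  have := h3 d hd hd1
  omega

theorem two_pow_mod {s : ℕ} (hs : s.Prime) (h2 : s ≠ 2) {x : Y} (hx : x ^ s = 1) :
    2 ^ cod ρ (zpowers x) % s = 1 % s := by
  have : Fact s.Prime := ⟨hs⟩
  have h := pow_cod_modEq (ρ := ρ) (s := s)
    (by rw [Nat.card_zmod]; exact fun e => h2 ((Nat.prime_dvd_prime_iff_eq hs Nat.prime_two).1 e))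
    (elemAb_isPGroup (elemAb_zpowers hx))
  rwa [Nat.card_zmod] at h

theorem dvd_of_pow_mod {s o c : ℕ} (ho : 0 < o) (h1 : 2 ^ o % s = 1 % s) (h2 : ∀ d < o, 2 ^ d % s = 1 % s → d = 0)
    (h : 2 ^ c % s = 1 % s) : o ∣ c := by
  refine Nat.dvd_of_mod_eq_zero (h2 _ (Nat.mod_lt _ ho) ?_)
  have h3 : 2 ^ (o * (c / o)) ≡ 1 [MOD s] := by
    have := Nat.ModEq.pow (c / o) (show 2 ^ o ≡ 1 [MOD s] from h1)
    rwa [one_pow, ← pow_mul] at this
  have h4 := h3.mul_right (2 ^ (c % o))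
  rw [one_mul, ← pow_add, Nat.div_add_mod] at h4
  exact h4.symm.trans h

theorem two_dvd_cod {x : Y} (hx : x ^ 3 = 1) : 2 ∣ cod ρ (zpowers x) :=
  dvd_of_pow_mod (s := 3) (by norm_num) (by norm_num) (by decide) (two_pow_mod Nat.prime_three (by norm_num) hx)

theorem four_dvd_cod {x : Y} (hx : x ^ 5 = 1) : 4 ∣ cod ρ (zpowers x) :=
  dvd_of_pow_mod (s := 5) (by norm_num) (by norm_num) (by decide) (two_pow_mod Nat.prime_five (by norm_num) hx)

theorem ten_dvd_cod {x : Y} (hx : x ^ 11 = 1) : 10 ∣ cod ρ (zpowers x) :=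
  dvd_of_pow_mod (s := 11) (by norm_num) (by norm_num) (by decide) (two_pow_mod (by norm_num) (by norm_num) hx)

theorem cases_eleven (hf : Function.Injective ρ) {x : Y} (hx : x ^ 11 = 1) (h1 : x ≠ 1) :
    cod ρ (zpowers x) = 10 ∨ 20 ≤ cod ρ (zpowers x) := by
  have h2 := ten_dvd_cod (ρ := ρ) hx
  have h3 := cod_pos hf (zpowers_ne_bot.2 h1)
  omega

theorem mem_normalizer_of_pow [Finite Y] {x y : Y} {n : ℕ} (h : y * x * y⁻¹ = x ^ n) :
    y ∈ normalizer (zpowers x : Set Y) := by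
  refine mem_normalizer_fintype ?_
  rintro _ ⟨m, rfl⟩
  rw [← conj_zpow, h]
  exact zpow_mem (pow_mem (mem_zpowers x) n) m

/-- the Frobenius group of order 55 -/
theorem five_ge [Finite Y] {x y : Y} (hx : x ^ 11 = 1) (h1 : x ≠ 1) (hy : y ^ 5 = 1) (h : y * x * y⁻¹ = x ^ 3) :
    4 * cod ρ (zpowers x) ≤ 5 * cod ρ (zpowers y) := by
  have : Fact (Nat.Prime 5) := ⟨Nat.prime_five⟩
  have : Fact (Nat.Prime 11) := ⟨by norm_num⟩
  have h2 : y * x ≠ x * y := fun e => by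
    rw [e, mul_inv_cancel_right] at h
    have h3 : x ^ 2 = 1 := by
      have : x ^ 2 * x = 1 * x := by rw [← pow_succ, ← h, one_mul]
      exact mul_right_cancel this
    apply h1
    calc x = x ^ 11 * x := by rw [hx, one_mul]
      _ = (x ^ 2) ^ 6 := by rw [← pow_succ, ← pow_mul]
      _ = 1 := by rw [h3, one_pow]
  exact frobenius_bound_elt (s := 11) (p := 5) (by norm_num) (orderOf_eq_prime hx h1) (by decide)
    (orderOf_eq_prime hy (by rintro rfl; exact h2 (by rw [one_mul, mul_one]))) (mem_normalizer_of_pow h) h2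

theorem cod_le_of_inv {s : ℕ} (hs : s.Prime) (h2 : s ≠ 2) {y t : Y} (hy : y ^ s = 1) (h : t * y * t⁻¹ = y⁻¹) :
    cod ρ (zpowers y) ≤ 2 * cod ρ (zpowers t) :=
  cod_le_of_inverts ((hs.odd_of_ne_two h2).of_dvd_nat (orderOf_dvd_of_pow_eq_one hy)) h

/-- an element of order `s` is trivial on a small section -/
theorem triv_of_lt {s n : ℕ} (hs : s.Prime) (h2 : s ≠ 2) (hn : ∀ d, 0 < d → d < n → 2 ^ d % s ≠ 1 % s) {y : Y}
    (hy : y ^ s = 1) {U W : Submodule (ZMod 2) V} (h : U ≤ W) (hU : Inv ρ (zpowers y) U) (hW : Inv ρ (zpowers y) W)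
    (hd : finrank (ZMod 2) W < finrank (ZMod 2) U + n) : ∀ w ∈ W, ρ y w - w ∈ U := by
  have : Fact s.Prime := ⟨hs⟩
  by_cases e : cm ρ W (zpowers y) ≤ U
  · exact fun w hw => e (mem_cm (mem_zpowers y) hw)
  · exact absurd (le_finrank_of_order (n := n)
      (by rw [Nat.card_zmod]; exact fun e => h2 ((Nat.prime_dvd_prime_iff_eq hs Nat.prime_two).1 e))
      (by rwa [Nat.card_zmod]) (elemAb_isPGroup (elemAb_zpowers hy)) h hU hW e) (not_le.2 hd)

theorem fix_of_five {y : Y} (hy : y ^ 5 = 1) {B : Subgroup Y} (h : y ∈ normalizer (B : Set Y))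
    (hd : finrank (ZMod 2) (fx ρ B) ≤ 3) : fx ρ B ≤ fx ρ (zpowers y) := fun w hw =>
  mem_fx_zpowers.2 (sub_eq_zero.1 (triv_of_lt (n := 4) Nat.prime_five (by norm_num)
    (fun d h1 h2 => by interval_cases d <;> norm_num) hy bot_le (inv_bot _) (inv_fx (zpowers_le.2 h))
    (by rw [finrank_bot]; omega) w hw))

/-- the dimension when an element of order 11 has codimension 10 -/
theorem dim_le_thirteen [Finite Y] (h11 : ¬ 11 ^ 2 ∣ Nat.card Y) (h1 : fx ρ ⊤ = ⊥) (h2 : cm ρ ⊤ ⊤ = ⊤) {d x : Y}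
    (hg : closure {d, x} = ⊤) (hd : d ^ 2 = 1) (hx : x ^ 11 = 1) (hx1 : x ≠ 1) (hp : (d * x) ^ 11 = 1)
    (hp1 : d * x ≠ 1) (hc : cod ρ (zpowers x) = 10) : finrank (ZMod 2) V ≤ 13 := by
  have : Fact (Nat.Prime 11) := ⟨by norm_num⟩
  have h3 := scott (ρ := ρ) (x := d) (y := x) (hg ▸ h1) (hg ▸ h2)
  have h4 := two_mul_cod_le (ρ := ρ) hd
  have h5 := cod_eq_of_order (ρ := ρ) h11 hp hp1 hx hx1
  omega

theorem closure_pow_eq_top {d x : Y} (hg : closure {d, x} = ⊤) (hx : x ^ 11 = 1) {l m : ℕ} (h : l * m % 11 = 1) :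
    closure {d, x ^ l} = ⊤ := by
  rw [eq_top_iff, ← hg, closure_le]
  rintro g (rfl | hg)
  · exact subset_closure (Or.inl rfl)
  · have h1 : (x ^ l) ^ m ∈ closure {d, x ^ l} := pow_mem (Subgroup.subset_closure (by simp)) m
    rw [show g = x from hg]
    rwa [← pow_mul, ← Nat.div_add_mod (l * m) 11, h, pow_add, pow_mul, hx, one_pow, one_mul, pow_one] at h1

theorem dim_le_of_gen (h1 : fx ρ ⊤ = ⊥) (h2 : cm ρ ⊤ ⊤ = ⊤) {d x : Y} (hg : closure {d, x} = ⊤) (hd : d ^ 2 = 1)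
    (hx : x ^ 11 = 1) {l m : ℕ} (h : l * m % 11 = 1) :
    3 * finrank (ZMod 2) V ≤ 2 * cod ρ (zpowers x) + 2 * cod ρ (zpowers (d * x ^ l)) := by
  have hg' := closure_pow_eq_top hg hx h
  have h3 := scott (ρ := ρ) (x := d) (y := x ^ l) (hg' ▸ h1) (hg' ▸ h2)
  have h4 := two_mul_cod_le (ρ := ρ) hd
  have h5 := XL.cod_pow_le (ρ := ρ) x l
  omega

theorem dim_le_twelve [Finite Y] (h5 : ¬ 5 ^ 2 ∣ Nat.card Y) (h11 : ¬ 11 ^ 2 ∣ Nat.card Y) (h1 : fx ρ ⊤ = ⊥)
    (h2 : cm ρ ⊤ ⊤ = ⊤) {d x y : Y} (hg : closure {d, x} = ⊤) (hd : d ^ 2 = 1) (hx : x ^ 11 = 1) (hx1 : x ≠ 1)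
    (hp : (d * x) ^ 11 = 1) (hp1 : d * x ≠ 1) {l m : ℕ} (h : l * m % 11 = 1) (hq : (d * x ^ l) ^ 5 = 1)
    (hq1 : d * x ^ l ≠ 1) (hy : y ^ 5 = 1) (hy1 : y ≠ 1) {n : ℕ} (hn : y * x * y⁻¹ = x ^ n)
    (hc : cod ρ (zpowers x) = 10) : finrank (ZMod 2) V ≤ 12 := by
  have : Fact (Nat.Prime 5) := ⟨Nat.prime_five⟩
  have h3 := dim_le_thirteen h11 h1 h2 hg hd hx hx1 hp hp1 hc
  have h4 := cod_add (ρ := ρ) (zpowers x)
  have h6 := Submodule.finrank_mono (fix_of_five (ρ := ρ) hy (mem_normalizer_of_pow hn) (by omega))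
  have h7 := cod_add (ρ := ρ) (zpowers y)
  have h8 := four_dvd_cod (ρ := ρ) hy
  have h9 := cod_eq_of_order (ρ := ρ) h5 hq hq1 hy hy1
  have h10 := dim_le_of_gen h1 h2 hg hd hx h
  omega

/-- two 2-groups normalised by elements of order 5 without common fixed vector -/
theorem off_or [Finite Y] [Nontrivial V] (hn : finrank (ZMod 2) V ≤ 12) {O D : Subgroup Y} (hO : IsPGroup 2 O)
    (hD : IsPGroup 2 D) (hDO : D ≤ normalizer (O : Set Y)) {y z : Y} (hy : y ^ 5 = 1) (hz : z ^ 5 = 1)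
    (h1 : y ∈ normalizer (O : Set Y)) (h2 : z ∈ normalizer (D : Set Y)) (h : fx ρ (closure {y, z}) = ⊥) :
    cod ρ O ≤ 8 ∨ cod ρ D ≤ 8 := by
  by_contra e
  have h3 := cod_add (ρ := ρ) O
  have h4 := cod_add (ρ := ρ) D
  have h5 := fix_of_five (ρ := ρ) hy h1 (by omega)
  have h6 := fix_of_five (ρ := ρ) hz h2 (by omega)
  have h7 := inf_fx_ne_bot (ρ := ρ) hO (inv_top _) top_ne_bot
  rw [top_inf_eq] at h7
  refine inf_fx_ne_bot hD (inv_fx hDO) h7 (eq_bot_iff.2 fun v hv => h ▸ mem_fx_closure.2 ?_)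
  rintro _ (rfl | rfl)
  · exact mem_fx_zpowers.1 (h5 hv.1)
  · exact mem_fx_zpowers.1 (h6 hv.2)

omit [Finite V] in
theorem off_of_le {B : Subgroup Y} [Finite B] (hB : IsElementaryAbelian 2 B) {r : ℕ} (hr : 0 < r)
    (h : 2 ^ r ≤ Nat.card B) (hc : cod ρ B ≤ 2 * r) : Off 2 ρ B := by
  refine ⟨hB, fun e => ?_, ?_⟩
  · rw [e, card_bot] at h
    have := Nat.one_lt_two_pow hr.ne'
    omega
  · calc 2 ^ cod ρ B ≤ 2 ^ (r * 2) := Nat.pow_le_pow_right (by norm_num) (by omega)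
      _ = (2 ^ r) ^ 2 := pow_mul _ _ _
      _ ≤ _ := Nat.pow_le_pow_left h 2

end two

/-! ### elementary abelian subgroups given by generators -/

theorem elemAb_closure {Y : Type*} [Group Y] {p : ℕ} {S : Set Y} (hc : ∀ a ∈ S, ∀ b ∈ S, a * b = b * a)
    (hp : ∀ a ∈ S, a ^ p = 1) : IsElementaryAbelian p (closure S) := by
  have h1 : ∀ a ∈ closure S, ∀ b ∈ closure S, a * b = b * a := fun a ha b hb =>
    (mem_centralizer_iff.1 ((closure_le _).2 (fun x hx => mem_centralizer_iff.2 fun y hy =>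
      (mem_centralizer_iff.1 ((closure_le (centralizer {x})).2 (fun z hz => mem_centralizer_iff.2 (by
        rintro _ rfl; exact hc _ hx _ hz)) hy) x rfl).symm) hb : b ∈ centralizer (closure S : Set Y)) a ha)
  refine elemAb_of h1 fun a ha => ?_
  induction ha using closure_induction with
  | mem g hg => exact hp g hg
  | one => exact one_pow _
  | mul a b ha hb h2 h3 => rw [Commute.mul_pow (h1 a ha b hb), h2, h3, one_mul]
  | inv a _ h2 => rw [inv_pow, h2, inv_one]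

theorem mem_normalizer_closure {Y : Type*} [Group Y] [Finite Y] {S : Set Y} {g : Y}
    (h : ∀ s ∈ S, g * s * g⁻¹ ∈ closure S) : g ∈ normalizer (closure S : Set Y) := by
  refine mem_normalizer_fintype fun a ha => ?_
  induction ha using closure_induction with
  | mem s hs => exact h s hs
  | one => simp
  | mul a b _ _ h2 h3 =>
    have := mul_mem h2 h3
    rwa [conj_mul] at this
  | inv a _ h2 =>
    have := inv_mem h2
    rwa [conj_inv] at this

/-! ### covers with a centre of exponent 3 -/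

/-- a central extension whose kernel has exponent 3 -/
structure Cv {K S : Type*} [Group K] [Group S] (π : K →* S) : Prop where
  surj : Function.Surjective π
  cent : ∀ z, π z = 1 → ∀ g, z * g = g * z
  exp : ∀ z, π z = 1 → z ^ 3 = 1

namespace Cv

variable {K S : Type*} [Group K] [Group S] {π : K →* S} (C : Cv π)
include C

theorem uniq {n : ℕ} (hn : n.Coprime 3) {a b : K} (h : π a = π b) (ha : a ^ n = 1) (hb : b ^ n = 1) : a = b := by
  have h1 : π (a * b⁻¹) = 1 := by rw [map_mul, map_inv, h, mul_inv_cancel]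
  have h2 : (a * b⁻¹) ^ n = 1 := by
    have h3 := Commute.mul_pow (C.cent _ h1 b) n
    rwa [inv_mul_cancel_right, ha, hb, mul_one, eq_comm] at h3
  have h4 := pow_gcd_eq_one.2 ⟨h2, C.exp _ h1⟩
  rw [hn, pow_one] at h4
  exact mul_inv_eq_one.1 h4

theorem lift {n : ℕ} (m : ℕ) (hm : 3 * m % n = 1 % n) {s : S} (hs : s ^ n = 1) : ∃ a, π a = s ∧ a ^ n = 1 := by
  obtain ⟨w, rfl⟩ := C.surj s
  refine ⟨w ^ (3 * m), ?_, ?_⟩
  · rw [map_pow, pow_eq_pow_mod _ hs, hm, ← pow_eq_pow_mod _ hs, pow_one]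
  · rw [← pow_mul, show 3 * m * n = n * 3 * m by ring, pow_mul, pow_mul, C.exp _ (by rw [map_pow, hs]), one_pow]

end Cv

/-- the data `11:5` and `D10` -/
def Dat (S : Type*) [Group S] : Prop :=
  ∃ x y t : S, x ^ 11 = 1 ∧ x ≠ 1 ∧ y ^ 5 = 1 ∧ y * x * y⁻¹ = x ^ 3 ∧ t ^ 2 = 1 ∧ t ≠ 1 ∧ t * y * t⁻¹ = y⁻¹

theorem Cv.dat {K S : Type*} [Group K] [Group S] {π : K →* S} (C : Cv π) (h : Dat S) : Dat K := by
  obtain ⟨x, y, t, h1, h2, h3, h4, h5, h6, h7⟩ := h
  obtain ⟨x, rfl, g1⟩ := C.lift 4 (by norm_num) h1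
  obtain ⟨y, rfl, g3⟩ := C.lift 2 (by norm_num) h3
  obtain ⟨t, rfl, g5⟩ := C.lift 1 (by norm_num) h5
  refine ⟨x, y, t, g1, fun e => h2 (by rw [e, map_one]), g3, ?_, g5, fun e => h6 (by rw [e, map_one]), ?_⟩
  · refine C.uniq (n := 11) (by norm_num) (by simpa using h4) (by rw [conj_pow, g1, mul_one, mul_inv_cancel]) ?_
    rw [← pow_mul, mul_comm, pow_mul, g1, one_pow]
  · exact C.uniq (n := 5) (by norm_num) (by simpa using h7) (by rw [conj_pow, g3, mul_one, mul_inv_cancel])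
      (by rw [inv_pow, g3, inv_one])

/-- one class of involutions -/
def OneCl (S : Type*) [Group S] : Prop := ∀ s t : S, s ^ 2 = 1 → s ≠ 1 → t ^ 2 = 1 → t ≠ 1 → IsConj s t

theorem Cv.ne_one {K S : Type*} [Group K] [Group S] {π : K →* S} (C : Cv π) {n : ℕ} (hn : n.Coprime 3) {s : K}
    (hs : s ^ n = 1) (h : s ≠ 1) : π s ≠ 1 := fun e => h (C.uniq hn (e.trans (map_one π).symm) hs (one_pow n))

theorem Cv.oneCl {K S : Type*} [Group K] [Group S] {π : K →* S} (C : Cv π) (h : OneCl S) : OneCl K := by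
  intro s t h1 h2 h3 h4
  obtain ⟨g, hg⟩ := isConj_iff.1 (h (π s) (π t) (by rw [← map_pow, h1, map_one]) (C.ne_one (by norm_num) h1 h2)
    (by rw [← map_pow, h3, map_one]) (C.ne_one (by norm_num) h3 h4))
  obtain ⟨g, rfl⟩ := C.surj g
  exact isConj_iff.2 ⟨g, C.uniq (n := 2) (by norm_num) (by simpa using hg)
    (by rw [conj_pow, h1, mul_one, mul_inv_cancel]) h3⟩

theorem Cv.card_map {K S : Type*} [Group K] [Group S] {π : K →* S} (C : Cv π) {A : Subgroup K}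
    (hA : IsElementaryAbelian 2 A) : Nat.card (A.map π) = Nat.card A :=
  Nat.card_image_of_injOn fun a ha b hb h => C.uniq (n := 2) (by norm_num) h (hA.2 a ha) (hA.2 b hb)

section

variable {Y : Type*} [Group Y] [Finite Y] {V : Type*} [AddCommGroup V] [Module (ZMod 2) V] [Finite V]
  {ρ : Representation (ZMod 2) Y V}

omit [Finite Y] [Finite V] in
theorem cod_eq_of_isConj {s t : Y} (h : IsConj s t) : cod ρ (zpowers s) = cod ρ (zpowers t) := by
  obtain ⟨g, rfl⟩ := isConj_iff.1 h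
  exact (cod_zpowers_conj g s).symm

/-- one class of involutions and rank at most four: every offender is cubic -/
theorem cub_of_oneCl (hf : Function.Injective ρ) (hD : Dat Y) (hO : OneCl Y) {A : Subgroup Y} (hA : Off 2 ρ A)
    (hc : Nat.card A ≤ 16) : Cub ρ A := by
  obtain ⟨r, -, h1, h2⟩ := hA.exists_card
  by_cases hr : r ≤ 3
  · exact hA.cub (h1 ▸ Nat.pow_le_pow_right (by norm_num) hr)
  have h3 : r ≤ 4 := (Nat.pow_le_pow_iff_right (by norm_num : 1 < 2)).1 (h1 ▸ hc)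
  obtain rfl : r = 4 := by omega
  obtain ⟨x, y, t, g1, g2, g3, g4, g5, g6, g7⟩ := hD
  have h4 := cases_eleven hf g1 g2
  have h5 := five_ge (ρ := ρ) g1 g2 g3 g4
  have h6 := cod_le_of_inv (ρ := ρ) Nat.prime_five (by norm_num) g3 g7
  refine cub_of_const hA.1 h1 h2 (fun s hs hs1 => ?_) fun s hs u hu hs1 hu1 =>
    cod_eq_of_isConj (hO s u (hA.1.2 s hs) hs1 (hA.1.2 u hu) hu1)
  rw [cod_eq_of_isConj (hO s t (hA.1.2 s hs) hs1 g5 g6)]
  omega

end

/-! ### rows -/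

section rows

variable {p : ℕ} [Fact p.Prime] {S : Type} [Group S]

theorem card_map_π {Y : Type} [Group Y] [Finite Y] {V : Type} [AddCommGroup V] [Module (ZMod p) V] {K : Subgroup Y}
    {ρ : Representation (ZMod p) Y V} {π : K →* S} {φ : Y →* MulAut S} (H : Sit p K ρ π φ) {A : Subgroup Y}
    (hA : IsElementaryAbelian p A) (h : A ≤ K) :
    IsElementaryAbelian p ((A.subgroupOf K).map π) ∧ Nat.card ((A.subgroupOf K).map π) = Nat.card A := by
  have h1 : IsElementaryAbelian p (A.subgroupOf K) :=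
    elemAb_of (fun a ha b hb => Subtype.ext (elemAb_comm hA ha hb)) fun a ha => Subtype.ext (hA.2 _ ha)
  refine ⟨elemAb_map h1 π, ?_⟩
  rw [← Nat.card_congr (subgroupOfEquivOfLe h).toEquiv]
  exact Nat.card_image_of_injOn (injOn_of_not_dvd π (by rw [H.ker_π]; exact H.cop) (elemAb_isPGroup h1))

/-- small rank of `S` itself, `p` prime to the order of the outer automorphism group -/
theorem row_of_card (ho : ¬ p ∣ Nat.card (Out S))
    (h : ∀ E : Subgroup S, IsElementaryAbelian p E → Nat.card E ≤ p ^ small p) : Row p S := by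
  refine ⟨row88_of_sit fun Y _ _ V _ _ _ K ρ π φ H A hA => ⟨A, hA, hA.cub ?_⟩, row89_of_not_dvd ho⟩
  obtain ⟨h1, h2⟩ := card_map_π H hA.1 (H.toFrm.le_of_not_dvd (elemAb_isPGroup hA.1) ho)
  exact h2 ▸ h _ h1

end rows

end Cfsg.Agent.TwoF.SpA
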