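import Cfsg.Agent.TwoF.SpA.Res
import Cfsg.Agent.H419.Spor.M12
import Cfsg.Agent.H994.TwoGen.M12
import Cfsg.Agent.S2035
import Cfsg.Agent.S2061

/-!
# TwoF SP-A: the row `M12` (helper86)
-/

set_option autoImplicit false
set_option linter.unusedSectionVars false

namespace Cfsg.Agent.TwoF.SpA.M12

open Cfsg Module Gen Subgroup
open SporadicA.GolayBase SporadicA.GolayPerm SporadicStructure.M24El H729.Trans H729.MData H729.Count
open J4.M24InvolData (P1 P2)
open scoped Pointwise

/-- the tables of elements of `M12` -/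
def g12 (c : ℕ) : Bool := Nat.beq (pimg c 340831) 340831

/-- order 11 -/
def bx : ℕ := 735345505913612299192078699640062984
/-- a generator -/
def bX : ℕ := 818085329412963220387295629014214147
/-- a generator -/
def bY : ℕ := 477096268699603215719203957497858098
/-- an involution -/
def bd : ℕ := 230597461170820594591133681248833936
/-- order 3 -/
def bz : ℕ := 238263376278893385256826514887160384
/-- order 3 -/
def bu : ℕ := 984644637122988982120502427423999488
/-- order 3 -/
def bz2 : ℕ := 984736747096243141453600946036867120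
/-- order 3 -/
def bu2 : ℕ := 861422228340458470363505976489877554
/-- order 4 -/
def bi : ℕ := 305622300574010086570291784952596512
/-- order 4 -/
def bj : ℕ := 641554612260318451397381532556534816
/-- order 3 -/
def bw : ℕ := 305962337750339822429160486439340068
/-- interchanges two points -/
def be : ℕ := 305844377127812113134607728153761793
/-- interchanges two points -/
def bs : ℕ := 305906413049823230703633028695037984
/-- a group of order 9 -/
def LR : List ℕ := [238263376278893385256826514887160384, 238332941169900283208122778148718688, 238409080524485082010973074457038208,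
  921033928770474594201627819832811808, 921131378252173686388476600262337728, 921201196678770549392253329009088768,
  984644637122988982120502427423999488, 984720548920155097964205567319294016, 984818244535754528103549039458486304]
/-- a group of order 9 -/
def LR2 : List ℕ := [861057588226323351967154318249838633, 861422228340458470363505976489877554, 861503710764089936464288251617223720,
  940241368003154801372902122626223142, 940606018205733377029232081584304163, 940687521621007569355100151093991468,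
  984372098276488002915335088130900002, 984736747096243141453600946036867120, 984818244535754528103549039458486304]
/-- a quaternion group -/
def LQ : List ℕ := [305622300574010086570291784952596512, 466624011076989159304336436353177632, 601476417386228018602842719357766688,
  641554612260318451397381532556534816, 817435223784192840973166532989493280, 897875307309307564905936909826076704,
  944496878599615485569661386094854176, 984818244535754528103549039458486304]
/-- generators of the offender -/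
def gE : List ℕ := [217372073407925671434666431008056844, 217644956185435062498802276664681516, 236681085738091196965317018400171200]
/-- its elements -/
def LE : List ℕ := [217372073407925671434666431008056844, 217644956185435062498802276664681516, 236681085738091196965317018400171200,
  237035019059890633598361414335538432, 964889292800394141643853137663559884, 965266080816606811053007015647480076,
  984522506754647797731288993272236544, 984818244535754528103549039458486304]
/-- elements of order 11 inverted by `P2` -/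
def CW : List ℕ := [107105769189833700565771763600036224, 111929758108876672167770977692852629, 679770107746751870436250384596458058,
  633039766676757582287179060448633122, 778335433524662481093697664410195271, 142144526768565973849144977520137238,
  776359159316534935571506546191014535, 66210798482430204626247975258174159, 626244869843862105890481023834672672,
  976379339115984428186987419186616781, 914503522443358660169314870518013515, 958890455830487422451811885222570532,
  551953735335934004303846224508913713, 344058677914586216653148282862064241, 48504436800365630886127957911876038,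
  569148067470514549114608554369324550, 926967741550938693660644038617108968, 960619377285381612334857797369549395,
  601320979187607680183108559496554672, 970319914892972704704593940898624627, 384446870739315765843187634537009356,
  982057368113694692383355829394972068, 193962874564929157562997800597686326, 836449315682103431940678846769644214,
  652936729031224025933060156780251187, 319449754374881464482827285914866694, 486158002018431817843484030192994594,
  231731032695091628865942943810673677, 633587896037308224555963278941520486, 722351974662981208867924670520908901,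
  960870333551916042248123208260667765, 819130678099716484840630349470585027]
/-- generators of the stabiliser of a pair of points -/
def gH : List ℕ := [bz, bu, bz2, bu2, bs, bi, bj]

theorem scan : allR 12 0 (fun i => !Nat.beq (pimg P2 (enc i)) (enc i ^^^ 16777215) ||
    CW.any fun w => Nat.beq (pimg w (enc i)) (enc i)) = true := by decide +kernel

theorem fin_D : fin 340831 = Spor.squareDodecad := by decide +kernel

/-- the embedding of `M12` -/
noncomputable def E12 : Emb Spor.M12 g12 := ⟨inclusion inf_le_left, inclusion_injective _, fun c h1 h2 =>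
  ⟨⟨el c, (el c).2, MulAction.mem_stabilizer_iff.2 (by
    rw [← fin_D]
    exact (el_smul_fin h1 _).trans (congrArg fin (Nat.eq_of_beq_eq_true h2)))⟩, rfl⟩⟩

section

variable {G : Type*} [Group G] [Finite G] {V : Type*} [AddCommGroup V] [Module (ZMod 2) V] [Finite V]
  {ρ : Representation (ZMod 2) G V}

theorem two_dim {w : G} (hw : w ^ 3 = 1) {W U : Submodule (ZMod 2) V} (hW : Inv ρ (zpowers w) W)
    (h2 : finrank (ZMod 2) W = 2) (h1 : U ≤ W) (h3 : U ≤ fx ρ (zpowers w)) (h0 : U ≠ ⊥) : W ≤ fx ρ (zpowers w) :=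
  fun v hv => mem_fx_zpowers.2 (eq_of_sub_one_sq (p := 2) hw (by norm_num) (mem_fx_zpowers.1 (h3
    (triv_of_lt Nat.prime_three (by norm_num) (n := 2) (fun d h1 h2 => by interval_cases d; decide) hw h1 (inv_of_le_fx h3) hW (by
      have := Submodule.one_le_finrank_iff.2 h0
      omega) v hv))))

/-- a quaternion group normalised by an element of order 3 centralises a plane -/
theorem le_fx_quat {w i j : G} {Q : Subgroup G} (hQ : IsPGroup 2 Q) (hi : i ∈ Q) (hj : j ∈ Q) (hw : w ^ 3 = 1)
    (hn : w ∈ normalizer (Q : Set G)) (e1 : w * i * w⁻¹ = j) (e2 : w * j * w⁻¹ = i * j) {W : Submodule (ZMod 2) V}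
    (hW : Inv ρ (zpowers w) W) (hW' : Inv ρ Q W) (h2 : finrank (ZMod 2) W = 2) {v : V} (hv : v ∈ W) :
    ρ i v = v ∧ ρ j v = v := by
  have h0 := inf_fx_ne_bot hQ hW' (fun e => by rw [e, finrank_bot] at h2; omega)
  by_cases h : finrank (ZMod 2) ↥(W ⊓ fx ρ Q) < 2
  · have h3 := two_dim hw hW h2 inf_le_left (fun u hu => mem_fx_zpowers.2 (sub_eq_zero.1 ((Submodule.mem_bot _).1
      (triv_of_lt Nat.prime_three (by norm_num) (n := 2) (fun d h1 h2 => by interval_cases d; decide) hw bot_le (inv_bot _)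
        (hW.inf (inv_fx (zpowers_le.2 hn))) (by rwa [finrank_bot, zero_add]) u hu)))) h0
    have h4 : ∀ a ∈ Q, ρ (w * a * w⁻¹) v = ρ a v := fun a ha => by
      rw [rho_mul, rho_mul, h3 hv _ (inv_mem (mem_zpowers w)), h3 (hW' a ha v hv) _ (mem_zpowers w)]
    have h5 := h4 i hi
    have h6 := h4 j hj
    rw [e1] at h5
    rw [e2, rho_mul, h5] at h6
    have h7 := rho_injective ρ i h6
    exact ⟨h7, h5.trans h7⟩
  · have h3 : v ∈ W ⊓ fx ρ Q := (Submodule.eq_of_le_of_finrank_le inf_le_left (h2.trans_le (not_lt.1 h))).ge hv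
    exact ⟨h3.2 i hi, h3.2 j hj⟩

variable (E : Emb G g12)

theorem same {v : V} (hv : ∀ c ∈ gH, E.l c ∈ stab ρ v) (a b : Wd) (w : List ℕ)
    (h : (a.chk g12 && (b.chk g12 && Nat.beq a.val (pcomp b.val (prodW gH w)))) = true) :
    ρ (a.ev E.l) v = ρ (b.ev E.l) v := by
  rw [Bool.and_eq_true, Bool.and_eq_true, Nat.beq_eq] at h
  have h0 : (gH.all fun c => ok c && g12 c) = true := by decide +kernel
  obtain ⟨x, h1, h2⟩ := E.prod_mem h0 hv w
  rw [show a.ev E.l = b.ev E.l * x from E.inj (by
    rw [map_mul, (E.spec a h.1).2, (E.spec b h.2.1).2, h.2.2, h2, el_pcomp (E.spec b h.2.1).1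
      (ok_prodW (fun P hP => (Bool.and_eq_true_iff.1 (List.all_eq_true.1 h0 P hP)).1) w)]), rho_mul, mem_stab.1 h1]

theorem x11 : E.l bx ^ 11 = 1 := E.pow _ _ (by decide +kernel)
theorem x1 : E.l bx ≠ 1 := E.ne_one (.c _) (by decide +kernel)

/-- the case of dimension 10 -/
theorem small_case (hM : ∀ x, (E.ψ x : Equiv.Perm GolayPt) ∈ Spor.M12) (hf : Function.Injective ρ)
    (h1 : fx ρ ⊤ = ⊥) (h2 : cm ρ ⊤ ⊤ = ⊤) (hc : cod ρ (zpowers (E.l bx)) = 10) : ∃ B, Off 2 ρ B := by
  have h0 : closure {E.l bX, E.l bY} = ⊤ :=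
    E.gen_of (by decide +kernel) (by decide +kernel) (by
      rw [coe_el_eq (X := H994.TwoGen.M12.X) (by decide +kernel) (by decide +kernel),
        coe_el_eq (X := H994.TwoGen.M12.Y) (by decide +kernel) (by decide +kernel)]
      exact H994.TwoGen.M12.closure_eq) hM
  have n13 := dim_le_thirteen (E.not_dvd (by norm_num)) h1 h2 (E.gen₂ h0 bY bx [1, 1, 1, 1, 1, 1] [0] (by decide +kernel))
    (E.pow _ _ (by decide +kernel)) (x11 E) (x1 E) (E.one (.pw (.mul (.c _) (.c bx)) 11) (by decide +kernel))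
    (E.ne_one (.mul (.c _) (.c bx)) (by decide +kernel)) hc
  have hR := E.elemAb_sub 3 [bz, bu] (by decide +kernel)
  have m1 : E.l bz ∈ E.sub [bz, bu] := E.mem_sub (by simp)
  have m2 : E.l bu ∈ E.sub [bz, bu] := E.mem_sub (by simp)
  have eR : zpowers (E.l bz) ⊔ zpowers (E.l bu) = E.sub [bz, bu] :=
    le_antisymm (sup_le (zpowers_le.2 m1) (zpowers_le.2 m2)) (E.sub_le fun c hc => by
      rcases List.mem_pair.1 hc with rfl | rfl
      · exact mem_sup_left (mem_zpowers _)
      · exact mem_sup_right (mem_zpowers _))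
  obtain ⟨c6, c8⟩ : cod ρ (zpowers (E.l bz)) = 6 ∧ cod ρ (E.sub [bz, bu]) = 8 := by
    have h3 := sum_cod_rank_two (ρ := ρ) (elemAb_comm hR m2 m1) Nat.prime_three (by decide) (hR.2 _ m2) (hR.2 _ m1)
    rw [Finset.sum_range_succ, Finset.sum_range_succ, Finset.sum_range_one, eR,
      ← show E.l bi * E.l bz * (E.l bi)⁻¹ = E.l bu * E.l bz ^ 0 from
        E.conj (.c _) (.c _) (.mul (.c _) (.pw (.c _) 0)) (by decide +kernel),
      ← show E.l 817435223784192840973166532989493280 * E.l bz * (E.l _)⁻¹ = E.l bu * E.l bz ^ 1 from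
        E.conj (.c _) (.c _) (.mul (.c _) (.pw (.c _) 1)) (by decide +kernel),
      ← show E.l bj * E.l bz * (E.l bj)⁻¹ = E.l bu * E.l bz ^ 2 from
        E.conj (.c _) (.c _) (.mul (.c _) (.pw (.c _) 2)) (by decide +kernel),
      cod_zpowers_conj, cod_zpowers_conj, cod_zpowers_conj] at h3
    have h4 := two_dvd_cod (ρ := ρ) (hR.2 _ m1)
    have h5 := cod_pos hf fun e => E.ne_one (.c bz) (by decide +kernel) (zpowers_eq_bot.1 e)
    have h6 := cod_le_finrank (ρ := ρ) (E.sub [bz, bu])
    change 0 < cod ρ (zpowers (E.l bz)) at h5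
    omega
  have n10 : finrank (ZMod 2) V = 10 := by
    have h3 := dim_le_of_gen h1 h2 (E.gen₂ h0 bd bx [1, 1, 1, 1, 1, 1]
      [0, 1, 0, 1, 1, 1, 0, 1, 1, 1, 1, 0, 1, 1, 1, 1, 0, 1, 1, 0, 1, 1, 1, 1, 1, 1] (by decide +kernel))
      (E.pow _ _ (by decide +kernel)) (x11 E) (l := 1) (m := 1) (by norm_num)
    rw [← cod_zpowers_conj (E.l 236664826955334994097333266406181922) (E.l bd * _),
      show E.l 236664826955334994097333266406181922 * (E.l bd * E.l bx ^ 1) * (E.l _)⁻¹ = E.l bz from
        E.conj (.c _) (.mul (.c _) (.pw (.c _) 1)) (.c _) (by decide +kernel)] at h3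
    have h4 := cod_le_finrank (ρ := ρ) (zpowers (E.l bx))
    omega
  have lR : ∀ c ∈ LR, E.l c ∈ E.sub [bz, bu] := fun c hc =>
    (E.prods_mem (gl := [bz, bz, bu, bu]) (by decide +kernel) (by simpa using ⟨m1, m2⟩) c (List.mem_of_elem_eq_true
      (List.all_eq_true.1 (by decide +kernel : LR.all (Emb.prods [bz, bz, bu, bu]).elem = true) c hc))).2.2
  have lR2 : ∀ c ∈ LR2, E.l c ∈ E.sub [bz2, bu2] := fun c hc =>
    (E.prods_mem (gl := [bz2, bz2, bu2, bu2]) (by decide +kernel) (fun c hc => E.mem_sub (by simpa using hc)) c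
      (List.mem_of_elem_eq_true
        (List.all_eq_true.1 (by decide +kernel : LR2.all (Emb.prods [bz2, bz2, bu2, bu2]).elem = true) c hc))).2.2
  have lQ : ∀ c ∈ LQ, E.l c ∈ E.sub [bi, bj] := fun c hc =>
    (E.prods_mem (gl := [bi, bi, bi, bj]) (by decide +kernel) (fun c hc => E.mem_sub (by simpa using hc)) c
      (List.mem_of_elem_eq_true
        (List.all_eq_true.1 (by decide +kernel : LQ.all (Emb.prods [bi, bi, bi, bj]).elem = true) c hc))).2.2
  have eQ := fun x => E.enum (gl := [bi, bj]) (L := LQ) (x := x) (by decide +kernel) (by decide +kernel)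
  have hQ : IsPGroup 2 (E.sub [bi, bj]) := fun g => ⟨2, Subtype.ext (by
    obtain ⟨c, h3, h4⟩ := eQ g g.2
    change (g : G) ^ 4 = 1
    rw [h4]
    exact E.pow c 4 (List.all_eq_true.1 (by decide +kernel : (LQ.all fun c => (Wd.pw (.c c) 4).chk g12 &&
      Nat.beq (Wd.pw (.c c) 4).val idP) = true) c h3))⟩
  have nQ : E.sub [bi, bj] ≤ normalizer (E.sub [bz, bu] : Set G) := E.sub_le fun c hc => by
    rcases List.mem_pair.1 hc with rfl | rfl <;> exact E.norm_sub lR _ (by decide +kernel)
  have c7 : 7 ≤ cod ρ (E.sub [bi, bj]) := by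
    have h3 := frobenius_bound (ρ := ρ) (fun a ha b hb => elemAb_comm hR ha hb)
      (card_ne_zero_of_exp Nat.prime_three (by decide) hR.2) nQ fun a ha a1 r hr e => by
        obtain ⟨c, h3, rfl⟩ := eQ a ha
        obtain ⟨d, h4, rfl⟩ := E.enum (gl := [bz, bu]) (L := LR) (by decide +kernel) (by decide +kernel) hr
        rcases Bool.or_eq_true_iff.1 (List.all_eq_true.1 (List.all_eq_true.1 (by decide +kernel :
          (LQ.all fun c => LR.all fun d => (Nat.beq c idP || Nat.beq d idP) || (((Wd.c c).mul (.c d)).chk g12 &&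
            (((Wd.c d).mul (.c c)).chk g12 && !Nat.beq (pcomp ((Wd.c c).mul (.c d)).val idP)
              (pcomp ((Wd.c d).mul (.c c)).val idP)))) = true) c h3) d h4) with h | h
        · rcases Bool.or_eq_true_iff.1 h with h | h
          · exact absurd (Nat.eq_of_beq_eq_true h ▸ E.l_idP) a1
          · exact Nat.eq_of_beq_eq_true h ▸ E.l_idP
        · exact absurd e (E.ne _ _ h)
    have h4 : 8 ≤ _ := E.length_le (L := LQ) (by decide +kernel) lQ
    by_contra! h
    have h5 := h3.trans (Nat.mul_le_mul_left _ (Nat.le_of_lt_succ h))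
    rw [c8] at h5
    omega
  have hw : E.l bw ^ 3 = 1 := E.pow _ _ (by decide +kernel)
  have iW : Inv ρ (zpowers (E.l bw)) (fx ρ (E.sub [bz, bu])) :=
    inv_fx (zpowers_le.2 (E.norm_sub lR _ (by decide +kernel)))
  have dW : finrank (ZMod 2) (fx ρ (E.sub [bz, bu])) = 2 := by
    have := cod_add (ρ := ρ) (E.sub [bz, bu]); omega
  have WQ : fx ρ (E.sub [bz, bu]) ≤ fx ρ (E.sub [bi, bj]) := fun v hv => by
    obtain ⟨h3, h4⟩ := le_fx_quat hQ (E.mem_sub (c := bi) (by simp)) (E.mem_sub (c := bj) (by simp)) hw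
      (E.norm_sub lQ _ (by decide +kernel)) (E.conj (.c bw) (.c bi) (.c bj) (by decide +kernel))
      (E.conj (.c bw) (.c bj) (.mul (.c bi) (.c bj)) (by decide +kernel)) iW (inv_fx nQ) dW hv
    exact mem_fx_iff_le.2 (E.sub_le fun c hc => by rcases List.mem_pair.1 hc with rfl | rfl <;> assumption)
  have e1 : E.l be * E.l bz * (E.l be)⁻¹ = E.l bz2 := E.conj (.c _) (.c _) (.c _) (by decide +kernel)
  have e2 : E.l be * E.l bu * (E.l be)⁻¹ = E.l bu2 := E.conj (.c _) (.c _) (.c _) (by decide +kernel)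
  have eR2 : fx ρ (E.sub [bz2, bu2]) = (fx ρ (E.sub [bz, bu])).map (ρ (E.l be)) := by
    rw [← fx_conj]
    refine congrArg _ (le_antisymm (E.sub_le fun c hc => ?_) (map_le_iff_le_comap.2 (E.sub_le fun c hc => ?_)))
    · rcases List.mem_pair.1 hc with rfl | rfl
      · exact ⟨_, m1, e1⟩
      · exact ⟨_, m2, e2⟩
    · rcases List.mem_pair.1 hc with rfl | rfl
      · exact mem_comap.2 (e1.symm ▸ E.mem_sub (c := bz2) (by simp) : E.l be * _ * _ ∈ _)
      · exact mem_comap.2 (e2.symm ▸ E.mem_sub (c := bu2) (by simp) : E.l be * _ * _ ∈ _)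
  have WQ2 : fx ρ (E.sub [bz2, bu2]) ≤ fx ρ (E.sub [bi, bj]) := by
    rw [eR2]
    rintro _ ⟨v, hv, rfl⟩
    exact inv_fx le_rfl _ (E.norm_sub lQ _ (by decide +kernel)) v (WQ hv)
  obtain ⟨v, ⟨⟨v1, v2⟩, v3⟩, v0⟩ := (Submodule.ne_bot_iff _).1 (inf_fx_ne_bot (ρ := ρ)
    (elemAb_isPGroup (elemAb_zpowers (E.pow bs 2 (by decide +kernel))))
    ((inv_fx (zpowers_le.2 (E.norm_sub lR _ (by decide +kernel)))).inf
      (inv_fx (zpowers_le.2 (E.norm_sub lR2 _ (by decide +kernel))))) fun e => by
      have h3 := Submodule.finrank_sup_add_finrank_inf_eq (fx ρ (E.sub [bz, bu])) (fx ρ (E.sub [bz2, bu2]))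
      have h4 := Submodule.finrank_mono (sup_le WQ WQ2)
      have h5 := cod_add (ρ := ρ) (E.sub [bi, bj])
      have h6 : finrank (ZMod 2) (fx ρ (E.sub [bz2, bu2])) = 2 := by rw [eR2, finrank_map_rho, dW]
      rw [e, finrank_bot, dW, h6] at h3
      omega)
  have hv : ∀ c ∈ gH, E.l c ∈ stab ρ v := fun c hc => by
    simp only [gH, List.mem_cons, List.not_mem_nil, or_false] at hc
    rcases hc with rfl | rfl | rfl | rfl | rfl | rfl | rfl
    exacts [v1 _ m1, v1 _ m2, v2 _ (E.mem_sub (by simp)), v2 _ (E.mem_sub (by simp)), v3 _ (mem_zpowers _),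
      WQ v1 _ (E.mem_sub (by simp)), WQ v1 _ (E.mem_sub (by simp))]
  have tri : v + ρ (E.l bw) v + ρ (E.l bw ^ 2) v = 0 := by
    by_contra h
    have h3 := two_dim hw iW dW inf_le_left inf_le_right ((Submodule.ne_bot_iff _).2 ⟨_, ⟨add_mem (add_mem v1
      (iW _ (mem_zpowers _) v v1)) (iW _ (pow_mem (mem_zpowers _) 2) v v1), mem_fx_zpowers.2 (by
        rw [map_add, map_add, ← rho_mul, ← rho_mul, ← pow_two, ← pow_succ', hw, rho_one]; abel)⟩, h⟩) v1
    have h4 := E.gen h0 (gH ++ [bw]) (H := stab ρ v) (fun c hc => (List.mem_append.1 hc).elim (hv c) fun hc =>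
      List.mem_singleton.1 hc ▸ mem_fx_zpowers.1 h3) [0, 4, 5, 2, 0, 7, 3] [2, 3, 6, 7, 3, 7, 3, 5] (by decide +kernel)
    exact v0 ((Submodule.mem_bot _).1 (h1 ▸ mem_fx_iff_le.2 h4.ge))
  let f : ℕ → V := fun k => ρ (E.l bx ^ k) v
  let u : Fin 6 → V := ![f 9, f 7, f 4, f 8, f 5, f 10]
  let M := fx ρ (E.sub gE) ⊔ Submodule.span (ZMod 2) (Set.range u)
  have hu : ∀ i, u i ∈ M := fun i => Submodule.mem_sup_right (Submodule.subset_span ⟨i, rfl⟩)
  have pair : ∀ (g a b : ℕ) (w1 w2 : List ℕ) (ws : List (ℕ × List ℕ)),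
      ((Wd.c g).chk g12 && ((Wd.pw (.c bx) a).chk g12 && Nat.beq g (pcomp (ppow bx a) (prodW gH w1)))) = true →
      (((Wd.c g).mul (.pw (.c bw) 2)).chk g12 && ((Wd.pw (.c bx) b).chk g12 &&
        Nat.beq (pcomp g (ppow bw 2)) (pcomp (ppow bx b) (prodW gH w2)))) = true →
      (gE.all fun e => ws.any fun w => ((Wd.c e).mul ((Wd.c g).mul (.c bw))).chk g12 && (((Wd.c g).mul (.c bw)).chk g12 &&
        Nat.beq (pcomp e (pcomp g bw)) (pcomp (pcomp g bw) (prodW gH w.2)))) = true → f a ∈ M → f b ∈ M :=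
    fun g a b w1 w2 ws k1 k2 k3 k4 => by
      have k5 := congrArg (ρ (E.l g)) tri
      rw [map_add, map_add, map_zero, ← rho_mul, ← rho_mul,
        show ρ (E.l g) v = f a from same E hv (.c g) (.pw (.c bx) a) w1 k1,
        show ρ (E.l g * E.l bw ^ 2) v = f b from same E hv (.mul (.c g) (.pw (.c bw) 2)) (.pw (.c bx) b) w2 k2] at k5
      rw [eq_neg_of_add_eq_zero_right k5]
      refine neg_mem (add_mem k4 (Submodule.mem_sup_left (mem_fx_iff_le.2 (E.sub_le fun e he => ?_))))
      obtain ⟨w, -, k6⟩ := List.any_eq_true.1 (List.all_eq_true.1 k3 e he)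
      exact (rho_mul ρ _ _ v).symm.trans (same E hv (.mul (.c e) (.mul (.c g) (.c bw))) (.mul (.c g) (.c bw)) w.2 k6)
  have f0 : f 0 ∈ M := Submodule.mem_sup_left (by
    rw [show f 0 = v by simp [f]]
    refine mem_fx_iff_le.2 (E.sub_le fun e he => ?_)
    simp only [gE, List.mem_cons, List.not_mem_nil, or_false] at he
    rcases he with rfl | rfl | rfl
    exacts [E.mem gH hv [1, 1, 3, 0, 1] (.c _) (by decide +kernel), E.mem gH hv [2, 3, 3, 4] (.c _) (by decide +kernel),
      E.mem gH hv [5, 1, 4] (.c _) (by decide +kernel)])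
  have f6 := pair 818255129380137855644406305253277804 9 6 [0, 0, 3, 1] [2, 1, 1, 4]
    [(0, [5, 4]), (0, [1, 2, 5, 4]), (0, [5, 5, 2])] (by decide +kernel) (by decide +kernel) (by decide +kernel) (hu 0)
  have f2 := pair 588326409025382894010632392386293865 7 2 [2, 5, 2, 6] [2, 0, 2, 4]
    [(0, [4, 5]), (0, [0, 3, 4, 5]), (0, [5, 2, 4])] (by decide +kernel) (by decide +kernel) (by decide +kernel) (hu 1)
  have f1 := pair 843960858781243574766877032241502226 4 1 [0, 0, 3, 5] [2, 4, 6]
    [(0, [5, 1, 5]), (0, [3, 0, 4, 5]), (0, [3, 5, 5])] (by decide +kernel) (by decide +kernel) (by decide +kernel) (hu 2)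
  have hx : fx ρ (zpowers (E.l bx)) = ⊥ := Submodule.finrank_eq_zero.1 (by
    have := cod_add (ρ := ρ) (zpowers (E.l bx)); omega)
  have fs : ∀ k, ρ (E.l bx) (f k) = f (k + 1) := fun k => by rw [← rho_mul, ← pow_succ']
  have f3 : f 3 ∈ M := by
    have h3 : ∑ k ∈ Finset.range 11, f k = 0 := (Submodule.mem_bot _).1 (hx ▸ mem_fx_zpowers.2 (by
      have := (Finset.sum_range_succ' f 11).symm.trans (Finset.sum_range_succ f 11)
      rw [show f 11 = f 0 by simp only [f, x11 E, pow_zero]] at this
      rw [map_sum, Finset.sum_congr rfl fun k _ => fs k, add_right_cancel this]))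
    simp only [Finset.sum_range_succ, Finset.sum_range_zero] at h3
    rw [show f 3 = -(f 0 + f 1 + f 2 + u 2 + u 4 + f 6 + u 1 + u 3 + u 0 + u 5) from
      eq_neg_of_add_eq_zero_left (Eq.trans (by simp only [u]; simp; abel) h3)]
    exact neg_mem (add_mem (add_mem (add_mem (add_mem (add_mem (add_mem (add_mem (add_mem (add_mem f0 f1) f2) (hu _))
      (hu _)) f6) (hu _)) (hu _)) (hu _)) (hu _))
  have h3 : Submodule.span (ZMod 2) (Set.range f) ≤ M := Submodule.span_le.2 (by
    rintro _ ⟨k, rfl⟩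
    rw [show f k = f (k % 11) from congrArg (ρ · v) (pow_eq_pow_mod k (x11 E))]
    have := Nat.mod_lt k (show 0 < 11 by norm_num)
    generalize k % 11 = m at this
    interval_cases m
    exacts [f0, f1, f2, f3, hu 2, hu 4, f6, hu 1, hu 3, hu 0, hu 5])
  have h4 : 10 ≤ finrank (ZMod 2) (Submodule.span (ZMod 2) (Set.range f)) := by
    by_contra! h
    have h5 := triv_of_lt (ρ := ρ) (s := 11) (n := 10) (by norm_num) (by norm_num)
      (fun d h1 h2 => by interval_cases d <;> decide) (x11 E) (W := Submodule.span (ZMod 2) (Set.range f)) bot_le (inv_bot _)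
      (fun b hb a ha => by
        obtain ⟨m, rfl⟩ := mem_powers_iff_mem_zpowers.2 hb
        refine (Submodule.map_span_le (ρ (E.l bx ^ m)) _ (Submodule.span (ZMod 2) (Set.range f))).2 ?_ ⟨a, ha, rfl⟩
        rintro _ ⟨k, rfl⟩
        exact Submodule.subset_span ⟨m + k, by simp only [f, pow_add, rho_mul]⟩)
      (by rwa [finrank_bot, zero_add]) v (Submodule.subset_span ⟨0, by simp [f]⟩)
    exact v0 ((Submodule.mem_bot _).1 (hx ▸ mem_fx_zpowers.2 (sub_eq_zero.1 ((Submodule.mem_bot _).1 h5))))
  have h5 := h4.trans ((Submodule.finrank_mono h3).trans (Submodule.finrank_add_le_finrank_add_finrank _ _))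
  have h6 : finrank (ZMod 2) (Submodule.span (ZMod 2) (Set.range u)) ≤ 6 := finrank_range_le_card u
  have h7 := cod_add (ρ := ρ) (E.sub gE)
  exact ⟨_, off_of_le (E.elemAb_sub 2 gE (by decide +kernel)) (r := 3) (by norm_num)
    (E.length_le (L := LE) (by decide +kernel) (E.mem_of_prods (by decide +kernel))) (by omega)⟩

end

open H419.Spor.M12 in
/-- an outer automorphism of order two of `M12` inverts an element of order 11 -/
theorem exists_inv {α : MulAut Spor.M12} (h2 : α ^ 2 = 1) (h : α ∉ Inn Spor.M12) :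
    ∃ w : Spor.M12, w ^ 11 = 1 ∧ w ≠ 1 ∧ α w = w⁻¹ := by
  obtain ⟨m, rfl⟩ := (mem_or α).resolve_left fun ⟨m, e⟩ => h ⟨m, e.symm⟩
  obtain ⟨γ, hγ⟩ : ∃ γ : M24, (γ : Equiv.Perm GolayPt) = m * projInv := ⟨⟨_, mul_mem m.2.1 I_mem⟩, rfl⟩
  have a1 : ∀ g, E12.ψ ((MulAut.conj m * bt) g) = γ * E12.ψ g * γ⁻¹ := fun g => Subtype.ext (by
    change (m : Equiv.Perm GolayPt) * (projInv * g * projInv⁻¹) * (m : Equiv.Perm GolayPt)⁻¹ =
      γ * g * (γ : Equiv.Perm GolayPt)⁻¹
    rw [hγ]; group)
  have a2 : ∀ p, γ • p ∈ Spor.squareDodecad ↔ p ∉ Spor.squareDodecad := fun p => by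
    rw [coe_smul_pt, hγ]
    exact (mem_iff (smul_eq m) _).trans ((by decide +kernel : ∀ p, projInv p ∈ Spor.squareDodecad ↔
      p ∉ Spor.squareDodecad) p)
  have a3 : γ ^ 2 = 1 := by
    obtain ⟨z, hz⟩ : ∃ z, E12.ψ z = γ * γ := ⟨⟨_, mem12 (γ * γ).2 fun p hp => (a2 _).2 fun e => (a2 p).1 e hp⟩, rfl⟩
    have h3 : z ∈ center Spor.M12 := mem_center_iff.2 fun g => E12.inj (by
      have h4 := congrArg (fun β : MulAut Spor.M12 => E12.ψ (β g)) h2
      simp only [pow_two, MulAut.mul_apply (e₁ := MulAut.conj m * bt), a1, MulAut.one_apply] at h4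
      rw [map_mul, map_mul, hz]
      nth_rewrite 1 [← h4]
      group)
    rw [Omega.TwoF.RowM12.center_eq, mem_bot] at h3
    rw [pow_two, ← hz, h3, map_one]
  have a4 : ∀ p, γ • p ≠ p := fun p e => iff_not_self (by simpa only [e] using a2 p)
  obtain ⟨k, hk⟩ := isConj_iff.1 ((kinds a3 fun e => a4 none (e ▸ one_smul _ _)).resolve_left fun e => by
    have := e.2
    rw [nf, H866.InvolType.fx, Finset.filter_false_of_mem (p := fun p => γ.1 p = p) fun p _ => a4 p] at this
    exact absurd this (by decide)).1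
  obtain ⟨i, hi, e⟩ := isCode_iff_exists.1 ((mem_dodecads_iff _).1
    ((smul_mem_dodecads k.2).2 Schreier.MEleven.squareDodecad_mem)).1
  have a5 : fin (enc i) = k • Spor.squareDodecad := e ▸ fin_maskOf _
  have a6 : pimg P2 (enc i) = enc i ^^^ 16777215 := by
    have h3 : ok P2 = true := by decide +kernel
    refine fin_injective (pimg_lt (ok_iff.1 h3).1 _) (Nat.xor_lt_two_pow (enc_lt i) (by norm_num)) ?_
    rw [← el_smul_fin h3, fin_xor, a5, ← hk, show fin 16777215 = Finset.univ by decide +kernel, ← mul_smul,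
      inv_mul_cancel_right]
    ext p
    have h4 := a2 (γ⁻¹ • k⁻¹ • p)
    rw [smul_inv_smul] at h4
    simp only [Finset.mem_symmDiff, Finset.mem_univ, not_true, and_false, true_and, false_or,
      ← Finset.inv_smul_mem_iff, mul_smul, h4, not_not]
  have a7 := allR_zero_spec scan i hi
  rw [a6, Nat.beq_refl, Bool.not_true, Bool.false_or] at a7
  obtain ⟨w, h3, h4⟩ := List.any_eq_true.1 a7
  have h5 := List.all_eq_true.1 (by decide +kernel : (CW.all fun w => ok w &&
    (((Wd.pw (.c w) 11).chk (fun _ => true) && Nat.beq (Wd.pw (.c w) 11).val idP) &&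
      (((Wd.c w).chk (fun _ => true) && !Nat.beq (pcomp (Wd.c w).val idP) idP) &&
        (((Wd.c w).mul ((Wd.c P2).mul (.c w))).chk (fun _ => true) && ((Wd.c P2).chk (fun _ => true) &&
          Nat.beq ((Wd.c w).mul ((Wd.c P2).mul (.c w))).val (Wd.c P2).val))))) = true) w h3
  rw [Bool.and_eq_true, Bool.and_eq_true, Bool.and_eq_true _ (_ && (_ && _))] at h5
  have b1 := E24.pow w 11 h5.2.1
  have b2 : E24.l w ≠ 1 := E24.ne_one _ h5.2.2.1
  have b3 : E24.l P2 * E24.l w * (E24.l P2)⁻¹ = (E24.l w)⁻¹ := E24.inv _ _ h5.2.2.2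
  rw [E24_l] at b1 b2
  rw [E24_l, E24_l, ← hk] at b3
  obtain ⟨z, hz⟩ : ∃ z, E12.ψ z = k⁻¹ * el w * k := ⟨⟨_, (k⁻¹ * el w * k).2, MulAction.mem_stabilizer_iff.2 (by
    change (k⁻¹ * el w * k) • Spor.squareDodecad = _
    rw [mul_smul, mul_smul, ← a5, el_smul_fin h5.1, Nat.eq_of_beq_eq_true h4, a5, inv_smul_smul])⟩, rfl⟩
  refine ⟨z, E12.inj ?_, fun e => b2 ?_, E12.inj ?_⟩
  · rw [map_pow, hz, map_one, ← inv_inv k, inv_inv k⁻¹, conj_pow, b1]
    group
  · rw [e, map_one] at hz
    exact conj_eq_one_iff.1 (by simpa only [inv_inv] using hz.symm : k⁻¹ * el w * k⁻¹⁻¹ = 1)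
  · rw [a1, map_inv, hz, mul_inv_rev, mul_inv_rev, ← b3]
    group

theorem key {Y : Type} [Group Y] [Finite Y] {V : Type} [AddCommGroup V] [Module (ZMod 2) V] [Finite V]
    {K : Subgroup Y} {ρ : Representation (ZMod 2) Y V} {π : K →* Spor.M12} {φ : Y →* MulAut Spor.M12}
    (H : Sit 2 K ρ π φ) {A : Subgroup Y} (hA : Off 2 ρ A) (hK : ¬ A ≤ K) : ∃ B ≤ K, Off 2 ρ B := by
  have h0 : Function.Injective π := (MonoidHom.ker_eq_bot_iff π).1
    (H.ker_π.trans (card_eq_one.1 (Nat.dvd_one.1 (center_dvd H (j := 1) (m := 1) S2035.result))))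
  let E : Emb K g12 := ⟨E12.ψ.comp π, E12.inj.comp h0, fun c h1 h2 => by
    obtain ⟨x, hx⟩ := E12.ex c h1 h2
    obtain ⟨y, rfl⟩ := H.surj x
    exact ⟨y, hx⟩⟩
  obtain ⟨h3, h4, -⟩ := res_facts H.toStp
  have hf := H.faithful.comp K.subtype_injective
  rcases cases_eleven (ρ := ρ.comp K.subtype) hf (x11 E) (x1 E) with hc | hc
  · obtain ⟨B, hB⟩ := small_case E (fun x => (π x).2) hf h3 h4 hc
    exact off_res hB
  obtain ⟨a, ha, haK⟩ := SetLike.not_le_iff_exists.1 hK
  obtain ⟨w, w1, w2, w3⟩ := exists_inv (α := φ a) (by rw [← map_pow, hA.1.2 a ha, map_one])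
    fun h => haK (H.toFrm.mem_inn_iff.1 h)
  obtain ⟨w, rfl⟩ := H.surj w
  have w4 : w ^ 11 = 1 := h0 (by rw [map_pow, w1, map_one])
  rw [cod_eq_of_order (hp := ⟨by norm_num⟩) (E.not_dvd (by norm_num)) (x11 E) (x1 E) w4
    (fun e => w2 (by rw [e, map_one])), cod_res] at hc
  have h5 := cod_le_of_inv (ρ := ρ) (t := a) (y := (w : Y)) (s := 11) (by norm_num) (by norm_num) (congrArg Subtype.val w4)
    (congrArg Subtype.val (h0 (((H.conj a w ⟨_, H.normal.conj_mem _ w.2 a⟩ rfl).symm.trans w3).trans (map_inv π w).symm)))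
  have h6 := XL.cod_le_of_mem (ρ := ρ) ha
  obtain ⟨r, -, g1, g2⟩ := hA.exists_card
  have g3 := card_of_index (index_two H S2061.result hK) hK
  have g4 := card_map_π H (elemAb_of_le hA.1 (inf_le_left (b := K))) inf_le_right
  have g5 := rank_twelve g4.1
  have g6 := Nat.pow_le_pow_right (show 0 < 2 by norm_num) (show 5 ≤ r by omega)
  omega

end Cfsg.Agent.TwoF.SpA.M12

namespace Cfsg.Agent.TwoF.SpA

theorem rowM12 (p : ℕ) [Fact p.Prime] : Row p Spor.M12 := by
  by_cases h : p = 2
  · subst h
    exact row_of_key fun Y _ _ V _ _ _ K ρ π φ H => ⟨fun A hA hK => M12.key H hA hK, fun B h hB =>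
      hB.cub ((card_map_π H hB.1 h).2 ▸ rank_twelve (card_map_π H hB.1 h).1)⟩
  · exact row_odd24 h _ M12.E12.inj S2061.result.dvd

end Cfsg.Agent.TwoF.SpA
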