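import Cfsg.Agent.TwoF.SpA.Res
import Cfsg.Agent.TwoF.SpA.M22D
import Cfsg.Agent.H334.Ore.M22
import Cfsg.Agent.H916.RG.R22
import Cfsg.Agent.H994.TwoGen.M22
import Cfsg.Agent.H333.QS6.Lift
import Cfsg.Agent.S2036
import Cfsg.Agent.S2062

/-!
# TwoF SP-A: the row `M22` (helper86)
-/

set_option autoImplicit false
set_option linter.unusedSectionVars false

namespace Cfsg.Agent.TwoF.SpA.M22

open Cfsg Module Gen Subgroup
open SporadicA.GolayBase SporadicA.GolayPerm SporadicStructure.M24El H729.Trans H729.MData H729.Count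
open H729.M22Deg (inc inc_injective exists_el im_none im_zero card_M22)
open H334.Ore.Mat (im_mul im_el)

/-- the embedding of `M22` -/
noncomputable def E22 : Emb Spor.M22 g22 := ⟨inc, inc_injective, fun _ h1 h2 =>
  exists_el h1 (Nat.eq_of_beq_eq_true (Bool.and_eq_true_iff.1 h2).1) (Nat.eq_of_beq_eq_true (Bool.and_eq_true_iff.1 h2).2)⟩

theorem conj_t0 {s : Spor.M22} (h2 : s ^ 2 = 1) (h1 : s ≠ 1) : IsConj (E22.l t0) s := by
  obtain ⟨r, hr, x, hx, h⟩ := (H334.Ore.M22.cov s).resolve_left h1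
  rw [E22.l_eq hx] at h
  rcases Bool.or_eq_true_iff.1 (List.all_eq_true.1 (by decide +kernel : (H334.Ore.M22Data.D.all fun r =>
    Nat.beq r.c t0 || ((Wd.pw (.c r.c) 2).chk g22 && !Nat.beq (pcomp (Wd.pw (.c r.c) 2).val idP) idP)) = true) r hr)
    with e | e
  · exact Nat.eq_of_beq_eq_true e ▸ h
  · obtain ⟨g, rfl⟩ := isConj_iff.1 h
    rw [conj_pow, conj_eq_one_iff] at h2
    exact absurd h2 (E22.ne_one _ e)

theorem oneCl22 : OneCl Spor.M22 := fun _ _ h1 h2 h3 h4 => (conj_t0 h1 h2).symm.trans (conj_t0 h3 h4)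

theorem card_le {B : Subgroup Spor.M22} (hB : IsElementaryAbelian 2 B) : Nat.card B ≤ 16 := by
  rw [← card_map_of_injective (K := B) inc_injective]
  exact fix_le (elemAb_map hB _) (p := none) (by rintro _ ⟨b, -, rfl⟩; exact b.2.1.2)

/-- the case of dimension at most 12 -/
theorem small_case {G : Type*} [Group G] [Finite G] (E : Emb G g22) (hM : ∀ x, (E.ψ x : Equiv.Perm GolayPt) ∈ Spor.M22)
    {V : Type*} [AddCommGroup V] [Module (ZMod 2) V] [Finite V] [Nontrivial V] {ρ : Representation (ZMod 2) G V}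
    (h1 : fx ρ ⊤ = ⊥) (h2 : cm ρ ⊤ ⊤ = ⊤) (hc : cod ρ (zpowers (E.l cx)) = 10) : ∃ B, Off 2 ρ B := by
  have h0 : closure {E.l cx, E.l 979603689399033154365502228401887840} = ⊤ :=
    E.gen_of (by decide +kernel) (by decide +kernel) (by
      rw [coe_el_eq (X := H994.TwoGen.M22.X) (by decide +kernel) (by decide +kernel),
        coe_el_eq (X := H994.TwoGen.M22.Y) (by decide +kernel) (by decide +kernel)]
      exact H994.TwoGen.M22.closure_eq) hM
  have hn := dim_le_twelve (E.not_dvd (by norm_num)) (E.not_dvd (by norm_num)) h1 h2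
    (E.gen₂ h0 976448692869377735270425038196672544 cx [1] [0, 1, 0, 1, 1, 1, 0, 1, 1, 1, 0, 1, 0, 1, 1, 1, 0, 1]
      (by decide +kernel))
    (E.pow _ _ (by decide +kernel)) (x11 E) (x1 E) (E.one (.pw (.mul (.c _) (.c cx)) 11) (by decide +kernel))
    (E.ne_one (.mul (.c _) (.c cx)) (by decide +kernel)) (l := 4) (m := 3) (by norm_num)
    (E.one (.pw (.mul (.c _) (.pw (.c cx) 4)) 5) (by decide +kernel))
    (E.ne_one (.mul (.c _) (.pw (.c cx) 4)) (by decide +kernel)) (y5 E) (y1 E) (yx E) hc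
  refine (off_OD E hn (E.pow 976416893688618881168959227535242272 5 (by decide +kernel))
    (E.norm_sub (memO E) _ (by decide +kernel)) ?_).elim (fun h => ⟨_, h⟩) fun h => ⟨_, h⟩
  rw [E.gen₂ h0 _ yD [1, 0, 1, 1, 1, 0, 1, 1, 1, 1, 0, 0, 0, 1, 0, 1, 0, 0, 1, 1]
    [1, 0, 0, 1, 0, 0, 0, 1, 1, 0, 0, 0, 0, 1, 1, 1, 0, 0, 0] (by decide +kernel), h1]

/-- the tables of elements of `M22:2` -/
def gA (c : ℕ) : Bool := g22 c || (Nat.beq (papp c 23) 0 && Nat.beq (papp c 0) 23)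

theorem chkA {c : ℕ} (h : (Wd.c c).chk g22 = true) : (Wd.c c).chk gA = true :=
  Bool.and_eq_true_iff.2 ⟨(Bool.and_eq_true_iff.1 h).1, Bool.or_eq_true_iff.2 (Or.inl (Bool.and_eq_true_iff.1 h).2)⟩

theorem and₂ {a b : Bool} (ha : a = true) (hb : b = true) : (a && b) = true := by rw [ha, hb]; rfl

variable {Y : Type} [Group Y] [Finite Y] {V : Type} [AddCommGroup V] [Module (ZMod 2) V] [Finite V]
  {K : Subgroup Y} {ρ : Representation (ZMod 2) Y V}

/-- `Y = M22:2` -/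
structure Ctx (K : Subgroup Y) (E : Emb Y gA) : Prop where
  index : K.index = 2
  inn : ∀ x ∈ K, im (E.ψ x) 23 = 23 ∧ im (E.ψ x) 0 = 0
  mem : ∀ c, (Wd.c c).chk g22 = true → E.l c ∈ K
  cj : ∀ s ∈ K, s ^ 2 = 1 → s ≠ 1 → ∃ k, k * s * k⁻¹ = E.l t0
  le : ∀ B ≤ K, IsElementaryAbelian 2 B → Nat.card B ≤ 16

variable {E : Emb Y gA}

theorem com {c : ℕ} (hc : c ∈ L) : E.l c * E.l t0 = E.l t0 * E.l c :=
  have h := chkA (Emb.lst_chk lstL hc)
  have h0 : (Wd.c t0).chk gA = true := by decide +kernel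
  E.eq (.mul (.c c) (.c t0)) (.mul (.c t0) (.c c)) (and₂ (and₂ h h0) (and₂ (and₂ h0 h) (List.all_eq_true.1 comL c hc)))

theorem cjL {k a : ℕ} (hk : k ∈ L) (ha : (Wd.c a).chk gA = true) {b : Wd} (hb : b.chk gA = true)
    (h : Nat.beq (pcomp k a) (pcomp b.val k) = true) : E.l k * E.l a * (E.l k)⁻¹ = b.ev E.l :=
  have h1 := chkA (Emb.lst_chk lstL hk)
  E.conj (.c k) (.c a) b (and₂ (and₂ h1 ha) (and₂ (and₂ hb h1) h))

theorem sq {c : ℕ} (hc : c ∈ L) (h : E.l c ^ 2 = 1) : (!Nat.beq (pcomp (ppow c 2) idP) idP) ≠ true := fun e =>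
  E.ne_one (.pw (.c c) 2) (and₂ (chkA (Emb.lst_chk lstL hc)) e) h

theorem Ctx.cen (C : Ctx K E) {s : Y} (hs : s ∈ K) (h : s * E.l t0 = E.l t0 * s) : ∃ c ∈ L, s = E.l c := by
  let x : K := ⟨E.l t0, C.mem t0 (by decide +kernel)⟩
  have h1 : Nat.card (centralizer ({x} : Set K)) ≤ 384 := H334.Ore.Mat.card_cent_le (φ := E.ψ.comp K.subtype)
    (E.inj.comp K.subtype_injective) (F := H334.Ore.M22Data.F) (fun g b hb => by
      rcases List.mem_pair.1 hb with rfl | rfl
      · exact (C.inn g g.2).1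
      · exact (C.inn g g.2).2) (H334.Ore.M22Data.hC H334.Ore.M22Data.r0 List.mem_cons_self)
    (E.spec (.c t0) (by decide +kernel)).2
  refine (E.mono (g' := g22) fun c h => Bool.or_eq_true_iff.2 (Or.inl h)).surj lstL
    (H := (centralizer ({x} : Set K)).map K.subtype) (fun c hc => ⟨⟨_, C.mem c (Emb.lst_chk lstL hc)⟩,
      mem_centralizer_singleton_iff.2 (Subtype.ext (com hc)), rfl⟩) ?_
    ⟨⟨s, hs⟩, mem_centralizer_singleton_iff.2 (Subtype.ext h), rfl⟩
  rw [card_map_of_injective K.subtype_injective, lenL]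
  exact h1

/-- the case `dim [V, x] ≥ 20` -/
theorem Ctx.large (C : Ctx K E) (hc : 20 ≤ cod ρ (zpowers (E.l cx))) {A : Subgroup Y} (hA : Off 2 ρ A) (hK : ¬ A ≤ K)
    (h0 : ∀ a ∈ A, a * E.l t0 = E.l t0 * a) (h1 : E.l t0 ∈ A ∨ A ⊓ K = ⊥) : ∃ B ≤ K, Off 2 ρ B := by
  let E' : Emb Y g22 := E.mono fun c h => Bool.or_eq_true_iff.2 (Or.inl h)
  have hN := normal_of_index_eq_two C.index
  have h5 : 16 ≤ cod ρ (zpowers (E.l cy)) := by
    have : 4 * cod ρ (zpowers (E.l cx)) ≤ 5 * cod ρ (zpowers (E.l cy)) := five_ge (x11 E') (x1 E') (y5 E') (yx E')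
    omega
  have h8 : ∀ s ∈ K, s ^ 2 = 1 → s ≠ 1 → 8 ≤ cod ρ (zpowers s) := fun s hs h2 h3 => by
    obtain ⟨k, hk⟩ := C.cj s hs h2 h3
    obtain ⟨k', hk'⟩ := C.cj _ (C.mem ct (by decide +kernel)) (t2 E') (t1 E')
    have : cod ρ (zpowers (E.l cy)) ≤ 2 * cod ρ (zpowers (E.l ct)) :=
      cod_le_of_inv Nat.prime_five (by norm_num) (y5 E') (ty E')
    rw [← cod_zpowers_conj k' (E.l ct), hk', ← hk, cod_zpowers_conj] at this
    omega
  have hO : ∀ o ∈ LO, (Wd.c o).chk g22 = true := fun o ho => Emb.lst_chk lstO ho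
  have hO' : ∀ o ∈ gO, o ∈ LO ∧ o ∈ L := by decide +kernel
  have ht : E.l t0 ∈ K ∧ E.l t0 ^ 2 = 1 ∧ E.l t0 ≠ 1 :=
    ⟨C.mem _ (by decide +kernel), E.pow _ _ (by decide +kernel), E.ne_one (.c _) (by decide +kernel)⟩
  obtain ⟨r, -, g1, g2⟩ := hA.exists_card
  have g3 := card_of_index C.index hK
  have g4 := C.le _ inf_le_right (elemAb_of_le hA.1 (inf_le_left (b := K)))
  obtain ⟨a, ha, haK⟩ := SetLike.not_le_iff_exists.1 hK
  -- an outer involution does not centralise the group of the octad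
  obtain ⟨o, ho, h2, h3⟩ : ∃ o ∈ gO, (a * E.l o) ^ 2 ≠ 1 ∧ ((a * E.l o) ^ 2) ^ 2 = 1 := by
    have h4 : (Wd.c g0).chk gA = true := by decide +kernel
    have h6 : E.l g0 ∉ K := fun e => by
      have := (C.inn _ e).1
      rw [show E.ψ (E.l g0) = el g0 from (E.spec _ h4).2, im_el (by decide +kernel) (by norm_num)] at this
      exact absurd this (by decide +kernel)
    obtain ⟨c, h7, h9⟩ := C.cen ((mul_mem_iff_of_index_two C.index).2 (iff_of_false (fun e => h6 (inv_mem_iff.1 e)) haK))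
      (by
        rw [mul_assoc, h0 a ha, ← mul_assoc, ← mul_assoc]
        exact congrArg (· * a) (inv_mul_eq_iff_eq_mul.2 (by
          rw [← mul_assoc]; exact (E.conj (.c g0) (.c t0) (.c t0) (by decide +kernel)).symm)))
    rw [inv_mul_eq_iff_eq_mul] at h9
    have h10 : ((Wd.c g0).mul (.c c)).chk gA = true := by rw [Wd.chk, h4, chkA (Emb.lst_chk lstL h7)]; rfl
    rcases Bool.or_eq_true_iff.1 (List.all_eq_true.1 n2 c h7) with e | e
    · exact absurd (h9 ▸ hA.1.2 a ha : (E.l g0 * E.l c) ^ 2 = 1)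
        (E.ne_one (.pw (.mul (.c g0) (.c c)) 2) (and₂ h10 e))
    · obtain ⟨o, ho, e⟩ := List.any_eq_true.1 e
      have h11 := and₂ h10 (chkA (hO o (hO' o ho).1))
      rw [h9]
      exact ⟨o, ho, E.ne_one (.pw (.mul (.mul (.c g0) (.c c)) (.c o)) 2) (and₂ h11 (Bool.and_eq_true_iff.1 e).1),
        E.one (.pw (.pw (.mul (.mul (.c g0) (.c c)) (.c o)) 2) 2) (and₂ h11 (Bool.and_eq_true_iff.1 e).2)⟩
  have a2 : a⁻¹ = a := inv_eq_of_mul_eq_one_right (pow_two a ▸ hA.1.2 a ha)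
  have o2 : ∀ o ∈ LO, (E.l o)⁻¹ = E.l o := fun o ho =>
    inv_eq_of_mul_eq_one_right (pow_two (E.l o) ▸ (elO E').2 _ (memO E' o ho))
  have h4 : 4 ≤ r := by
    rcases h1 with h1 | h1
    · have := (h8 _ ht.1 ht.2.1 ht.2.2).trans (XL.cod_le_of_mem h1)
      omega
    · have e : (a * E.l o) ^ 2 = a * E.l o * a⁻¹ * (E.l o)⁻¹ := by rw [a2, o2 o (hO' o ho).1, pow_two]; group
      have k1 := C.mem o (hO o (hO' o ho).1)
      have k2 := h8 _ (e ▸ mul_mem (hN.conj_mem _ k1 a) (inv_mem k1)) h3 h2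
      have k3 := cod_zpowers_commutator_le (ρ := ρ) a (E.l o)
      have k4 := XL.cod_le_of_mem (ρ := ρ) ha
      rw [h1, card_bot, g1] at g3
      obtain rfl : r = 1 := Nat.pow_right_injective le_rfl g3
      rw [e] at k2
      omega
  have h6 : 8 ≤ Nat.card ↥(A ⊓ K) := by
    have := Nat.pow_le_pow_right two_pos h4
    omega
  replace h1 := h1.resolve_right fun e => by rw [e, card_bot] at h6; omega
  have h7 : ∀ s ∈ A ⊓ K, ∃ c ∈ L, s = E.l c := fun s hs => C.cen hs.2 (h0 s hs.1)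
  rcases h4.eq_or_lt with rfl | h4
  · -- the pointwise stabiliser of the fixed space of `A` contains the group of the octad
    let N := XL.cl ρ A
    have k0 : cod ρ N ≤ 8 := (XL.cod_cl A).trans_le g2
    have k1 : ∀ t ∈ N, t ∈ K → t ^ 2 = 1 → t ≠ 1 → ∀ x, x * t = t * x → ∀ b ∈ N, x * b * x⁻¹ ∈ N :=
      fun t e1 e2 e3 e4 x e5 b e6 => by
        have := XL.conj_mem_cl_of_comm e1 (k0.trans (h8 t e2 e3 e4)) e5 (XL.le_cl _ e6)
        rwa [XL.cl, XL.fx_cl] at this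
    have k2 : ∀ k ∈ L, ∀ b ∈ N, E.l k * b * (E.l k)⁻¹ ∈ N := fun k hk =>
      k1 _ (XL.le_cl A h1) ht.1 ht.2.1 ht.2.2 _ (com hk)
    obtain ⟨u, k3, k4, k5⟩ : ∃ u ∈ LO, E.l u ∈ N ∧ (Nat.beq u idP || Nat.beq u t0) ≠ true := by
      obtain ⟨c, k3, k4, k5⟩ : ∃ c ∈ L, E.l c ∈ A ∧ (Nat.beq c idP || Nat.beq c t0) ≠ true := by
        by_contra! e
        have := card_le_of_list (H := A ⊓ K) E.l [idP, t0] fun s hs => by
          obtain ⟨c, e1, rfl⟩ := h7 s hs
          exact ⟨c, by simpa using e c e1 hs.1, rfl⟩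
        simp only [List.length_cons, List.length_nil] at this
        omega
      rcases Bool.or_eq_true_iff.1 ((Bool.or_eq_true_iff.1 (List.all_eq_true.1 n3 c k3)).resolve_left
        (sq k3 (hA.1.2 _ k4))) with e | e
      · exact ⟨c, List.mem_of_elem_eq_true e, XL.le_cl A k4, k5⟩
      · obtain ⟨o, ho, e⟩ := List.any_eq_true.1 e
        obtain ⟨u, hu, e⟩ := List.any_eq_true.1 e
        rw [Bool.and_eq_true, Bool.not_eq_true', Bool.eq_false_iff] at e
        refine ⟨u, hu, ?_, e.2⟩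
        rw [← show (E.l o * E.l c) ^ 2 = E.l u from E.eq (.pw (.mul (.c o) (.c c)) 2) (.c u)
          (and₂ (and₂ (chkA (hO o (hO' o ho).1)) (chkA (Emb.lst_chk lstL k3))) (and₂ (chkA (hO u hu)) e.1)),
          pow_two, ← mul_assoc]
        exact mul_mem (by simpa only [o2 o (hO' o ho).1] using k2 o (hO' o ho).2 _ (XL.le_cl A k4)) (XL.le_cl A k4)
    have k6 : E.l u2 ∈ N := by
      obtain ⟨k, hk, e⟩ := List.any_eq_true.1 ((Bool.or_eq_true_iff.1 (List.all_eq_true.1 n6 u k3)).resolve_left k5)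
      have k7 := k2 k hk _ k4
      rcases Bool.or_eq_true_iff.1 e with e | e
      · rw [cjL hk (chkA (hO u k3)) (b := .c u1) (by decide +kernel) e] at k7
        rw [← show E.l M22.h1 * E.l t0 * (E.l M22.h1)⁻¹ = E.l u2 from
          E.conj (.c M22.h1) (.c t0) (.c u2) (by decide +kernel)]
        exact k1 _ k7 (C.mem _ (by decide +kernel)) (E.pow _ _ (by decide +kernel)) (E.ne_one (.c _) (by decide +kernel)) _
            (E.eq (.mul (.c _) (.c u1)) (.mul (.c u1) (.c _)) (by decide +kernel)) _ (XL.le_cl A h1)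
      · rwa [cjL hk (chkA (hO u k3)) (b := .c u2) (by decide +kernel) e] at k7
    refine ⟨_, E'.sub_le fun c hc => C.mem c (hO c (hO' c hc).1), offO E' ((cod_mono (E'.sub_le fun c hc => ?_)).trans k0)⟩
    obtain ⟨k, hk, e⟩ := List.any_eq_true.1 (List.all_eq_true.1 n7 c hc)
    have k7 := k2 k hk _ k6
    have k8 := chkA (hO c (hO' c hc).1)
    rcases Bool.or_eq_true_iff.1 e with e | e
    · rwa [cjL hk (by decide +kernel) (b := .c c) k8 e] at k7
    · rw [cjL hk (by decide +kernel) (b := .mul (.c c) (.c u2)) (and₂ k8 (by decide +kernel)) e] at k7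
      exact (mul_mem_cancel_right k6).1 k7
  · exfalso
    have k0 : Nat.card ↥(A ⊓ K) = 16 ∧ r = 5 := by
      have := Nat.pow_le_pow_right two_pos h4
      exact ⟨by omega, le_antisymm ((Nat.pow_le_pow_iff_right one_lt_two).1 (by omega)) h4⟩
    have k1 : ∀ s ∈ A ⊓ K, ∃ c ∈ LO ++ C2, s = E.l c := fun s hs => by
      obtain ⟨c, k3, rfl⟩ := h7 s hs
      rcases Bool.or_eq_true_iff.1 ((Bool.or_eq_true_iff.1 (List.all_eq_true.1 n4 c k3)).resolve_left
        (sq k3 (hA.1.2 _ hs.1))) with e | e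
      · exact ⟨c, List.mem_of_elem_eq_true e, rfl⟩
      obtain ⟨k, hk, e⟩ := List.any_eq_true.1 e
      have k4 := three_conj (ρ := ρ) (A := A.map (MulAut.conj (E.l k)).toMonoidHom) (t := E.l t0) (s := E.l s1)
        ⟨_, h1, mul_inv_eq_of_eq_mul (com hk)⟩
        ⟨_, hs.1, cjL hk (chkA (Emb.lst_chk lstL k3)) (b := .c s1) (by decide +kernel) e⟩
        (g := E.l M22.g2) (h := E.l M22.g3)
        (E.conj (.c M22.g2) (.c t0) (.c t0) (by decide +kernel)) (E.conj (.c M22.g3) (.c t0) (.c s1) (by decide +kernel))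
      rw [show E.l M22.g2 * E.l s1 * (E.l M22.g2)⁻¹ = E.l 984324647938295553064945932004594080 from
          E.conj (.c M22.g2) (.c s1) (.c _) (by decide +kernel),
        show E.l M22.g3 * E.l s1 * (E.l M22.g3)⁻¹ = E.l 984152727466544257491081215029119232 from
          E.conj (.c M22.g3) (.c s1) (.c _) (by decide +kernel), cod_conj,
        cod_eq_of_order (hp := ⟨Nat.prime_five⟩) (a := E.l _ * E.l _) (b := E.l cy) (E.not_dvd (by norm_num))
          (E.one (.pw (.mul (.c _) (.c _)) 5) (by decide +kernel)) (E.ne_one (.mul (.c _) (.c _)) (by decide +kernel))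
          (y5 E') (y1 E')] at k4
      have k5 := h8 _ ht.1 ht.2.1 ht.2.2
      have k6 := h8 _ (C.mem s1 (by decide +kernel)) (E.pow _ _ (by decide +kernel)) (E.ne_one (.c _) (by decide +kernel))
      omega
    have k2 : ∀ c ∈ LO ++ C2, (Wd.c c).chk gA = true := by decide +kernel
    by_cases e : ∃ s ∈ C2, E.l s ∈ A
    · obtain ⟨s, hs, e⟩ := e
      refine (Nat.blt_eq.mp (List.all_eq_true.1 n5 s hs)).not_ge (k0.1.ge.trans (card_le_of_list E.l _ fun x hx => ?_))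
      obtain ⟨c, k3, rfl⟩ := k1 x hx
      have k4 := k2 s (List.mem_append_right _ hs)
      have k5 : pcomp (pcomp c s) idP = pcomp (pcomp s c) idP := E.can (u := .mul (.c c) (.c s)) (w := .mul (.c s) (.c c))
        (and₂ (k2 c k3) k4) (and₂ k4 (k2 c k3)) (elemAb_comm hA.1 hx.1 e)
      exact ⟨c, List.mem_filter.2 ⟨k3, Nat.beq_eq.mpr k5⟩, rfl⟩
    · refine h2 (hA.1.2 _ (mul_mem ha (by_contra fun k3 => ?_)))
      have k4 := card_le_of_list (H := A ⊓ K) E.l (LO.erase o) fun x hx => by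
        obtain ⟨c, k4, rfl⟩ := k1 x hx
        exact ⟨c, (List.mem_erase_of_ne fun e' : c = o => k3 (e' ▸ hx.1)).2
          ((List.mem_append.1 k4).resolve_right fun e' => e ⟨c, e', hx.1⟩), rfl⟩
      rw [List.length_erase_of_mem (hO' o ho).1, k0.1] at k4
      exact absurd k4 (by decide)

variable {π : K →* Spor.M22} {φ : Y →* MulAut Spor.M22} (H : Sit 2 K ρ π φ)
include H

theorem th_coe (x : K) : (H916.RG.R22.φ.comp φ) x = inc (π x) := by
  rw [MonoidHom.comp_apply, H.toFrm.φ_coe, H916.RG.R22.φ_conj]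

theorem th_out {a : Y} (ha : a ∉ K) {c : ℕ} (hc : ok c = true) (h1 : papp c 23 = 0) (h2 : papp c 0 = 23) :
    ∃ k ∈ K, (H916.RG.R22.φ.comp φ) (k * a) = el c := by
  obtain ⟨h3, h4⟩ := H916.RG.R22.im_outer (α := φ a⁻¹) fun h => ha (inv_mem_iff.1 (H.toFrm.mem_inn_iff.1
    ⟨_, (KFacts.MM.OutAut.of_emb_mem h).symm⟩))
  obtain ⟨s, hs⟩ := exists_el (ok_packOf (el c * H916.RG.R22.φ (φ a⁻¹)))
    (by rw [papp_packOf_im _ (by norm_num), im_mul, h3, im_el hc (by norm_num), h2])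
    (by rw [papp_packOf_im _ (by norm_num), im_mul, h4, im_el hc (by norm_num), h1])
  obtain ⟨k, rfl⟩ := H.surj s
  refine ⟨k, k.2, ?_⟩
  rw [map_mul, th_coe H, hs, el_packOf, map_inv, map_inv]
  exact inv_mul_cancel_right _ _

theorem cv22 : Cv π := cv_of H (center_dvd H (j := 2) S2036.result)

theorem le22 : ∀ B ≤ K, IsElementaryAbelian 2 B → Nat.card B ≤ 16 := fun _ h hB =>
  (card_map_π H hB h).2 ▸ card_le (card_map_π H hB h).1

theorem cub22 {B : Subgroup Y} (h : B ≤ K) (hB : Off 2 ρ B) : Cub ρ B := by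
  have h1 := cub_of_oneCl (ρ := ρ.comp K.subtype) (H.faithful.comp K.subtype_injective) ((cv22 H).dat (dat22 E22))
    ((cv22 H).oneCl oneCl22) (SpB.off_comap _ K.subtype_injective (by rwa [range_subtype]) hB)
    ((Nat.card_congr (subgroupOfEquivOfLe h).toEquiv).trans_le (le22 H B h hB.1))
  rwa [cub_comp, map_comap_eq_self (by rwa [range_subtype])] at h1

/-- `K = M22` -/
theorem key_one (hZ : center K = ⊥) {A : Subgroup Y} (hA : Off 2 ρ A) (hK : ¬ A ≤ K) : ∃ B ≤ K, Off 2 ρ B := by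
  have h0 : Function.Injective (H916.RG.R22.φ.comp φ) := H916.RG.R22.φ_inj.comp ((MonoidHom.ker_eq_bot_iff φ).1
    (by rw [H.ker_φ, H.toStp.centralizer_eq, hZ, Subgroup.map_bot]))
  have h1 : ∀ c, (Wd.c c).chk g22 = true → ∃ x : K, (H916.RG.R22.φ.comp φ) x = el c := fun c hc => by
    obtain ⟨x, hx⟩ := H.surj (E22.l c)
    exact ⟨x, by rw [th_coe H, hx]; exact (E22.spec _ hc).2⟩
  obtain ⟨a, -, haK⟩ := SetLike.not_le_iff_exists.1 hK
  let E : Emb Y gA := ⟨_, h0, fun c h2 h3 => (Bool.or_eq_true_iff.1 h3).elim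
    (fun h => (h1 c (and₂ h2 h)).elim fun x hx => ⟨x, hx⟩) fun h =>
      (th_out H haK h2 (Nat.eq_of_beq_eq_true (Bool.and_eq_true_iff.1 h).1)
        (Nat.eq_of_beq_eq_true (Bool.and_eq_true_iff.1 h).2)).elim fun _ hk => ⟨_, hk.2⟩⟩
  let EK : Emb K g22 := ⟨E.ψ.comp K.subtype, h0.comp K.subtype_injective, fun c h2 h3 => h1 c (and₂ h2 h3)⟩
  have h2 : ∀ c, (Wd.c c).chk g22 = true → (EK.l c : Y) = E.l c := fun c hc => E.l_eq (EK.spec _ hc).2
  have C : Ctx K E :=
    { index := index_two H S2062.result hK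
      inn := fun x hx => by
        rw [show E.ψ x = _ from th_coe H ⟨x, hx⟩]
        exact ⟨im_none _, im_zero _⟩
      mem := fun c hc => h2 c hc ▸ (EK.l c).2
      cj := fun s hs h3 h4 => by
        obtain ⟨k, hk⟩ := isConj_iff.1 ((cv22 H).oneCl oneCl22 ⟨s, hs⟩ (EK.l t0) (Subtype.ext h3)
          (fun e => h4 (congrArg Subtype.val e)) (EK.pow _ _ (by decide +kernel)) (EK.ne_one (.c _) (by decide +kernel)))
        exact ⟨k, (congrArg Subtype.val hk).trans (h2 _ (by decide +kernel))⟩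
      le := le22 H }
  obtain ⟨h3, h4, h5⟩ := res_facts H.toStp
  rcases cases_eleven (ρ := ρ.comp K.subtype) (H.faithful.comp K.subtype_injective) (x11 EK) (x1 EK) with hc | hc
  · obtain ⟨B, hB⟩ := small_case EK (fun x => by rw [show EK.ψ x = _ from th_coe H x]; exact (π x).2) h3 h4 hc
    exact off_res hB
  rw [cod_res, h2 _ (by decide +kernel)] at hc
  have := H.normal
  obtain ⟨t, k1, k2, k3, k4, k5⟩ := exists_cent hA.1 (C.mem t0 (by decide +kernel)) (E.pow _ _ (by decide +kernel))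
    (E.ne_one (.c _) (by decide +kernel))
  obtain ⟨k, hk⟩ := C.cj t k1 k2 k3
  have k6 : ∀ a, k * a * k⁻¹ ∈ K → a ∈ K := fun a h => by simpa [mul_assoc] using this.conj_mem' _ h k
  refine C.large hc (hA.conj k) (fun h => hK fun a ha => k6 a (h ⟨a, ha, rfl⟩)) ?_ (k5.imp (fun h => ⟨t, h, hk⟩) fun h => ?_)
  · rintro _ ⟨a, ha, rfl⟩
    rw [← hk]
    exact (conj_mul.trans (congrArg (k * · * k⁻¹) (k4 a ha))).trans conj_mul.symm
  · refine eq_bot_iff.2 ?_
    rintro _ ⟨⟨a, ha, rfl⟩, h'⟩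
    exact conj_eq_one_iff.2 (mem_bot.1 (h ▸ mem_inf.2 ⟨ha, k6 a h'⟩))

/-- `K = 3.M22` -/
theorem key_three (hZ : center K ≠ ⊥) {A : Subgroup Y} (hA : Off 2 ρ A) (hK : ¬ A ≤ K) : ∃ B ≤ K, Off 2 ρ B := by
  have C := cv22 H
  have hN := H.normal
  have : Finite Spor.M22 := Finite.of_surjective π H.surj
  obtain ⟨q, hq⟩ := H.surj (E22.l cq)
  obtain ⟨y, hy⟩ := H.surj (E22.l cr)
  obtain ⟨u, hu⟩ := H.surj (E22.l ci)
  have hR := E22.elemAb_sub 3 [cq, cr] (by decide +kernel)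
  have m1 : E22.l cq ∈ E22.sub [cq, cr] := E22.mem_sub (by simp)
  have m2 : E22.l cr ∈ E22.sub [cq, cr] := E22.mem_sub (by simp)
  obtain ⟨z, hz⟩ : ∃ z, z = q * y * q⁻¹ * y⁻¹ := ⟨_, rfl⟩
  have z0 : π z = 1 := by
    rw [hz, map_mul, map_mul, map_mul, map_inv, map_inv, hq, hy, elemAb_comm hR m1 m2]; group
  have z1 : z ≠ 1 := fun e => by
    have h1 : 9 ∣ Nat.card (E22.sub [cq, cr]) := by
      obtain ⟨j, hj⟩ := (elemAb_isPGroup hR).exists_card_eq
      have h2 := E22.length_le (L := LR) (by decide +kernel) (H := E22.sub [cq, cr]) fun c hc =>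
        (E22.prods_mem (gl := [cq, cq, cr, cr]) (by decide +kernel) (by simpa using ⟨m1, m2⟩) c
          (List.mem_of_elem_eq_true (List.all_eq_true.1 (by decide +kernel : LR.all (Emb.prods [cq, cq, cr, cr]).elem = true)
            c hc))).2.2
      rw [hj] at h2 ⊢
      refine pow_dvd_pow 3 (show 2 ≤ j from not_lt.1 fun h => ?_)
      have := h2.trans (Nat.pow_le_pow_right (by norm_num) (Nat.le_of_lt_succ h))
      exact absurd this (by decide)
    let P := ((elemAb_isPGroup hR).toSylow fun h => absurd (mul_dvd_mul h1 h) (by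
      rw [card_mul_index, card_M22]; norm_num)).comapOfKerIsPGroup π (fun w => ⟨1, Subtype.ext (C.exp w w.2)⟩)
      (by rw [MonoidHom.range_eq_top.2 H.surj]; exact le_top)
    have h2 : E22.sub [cq, cr] ≤ (zpowers q ⊔ zpowers y).map π := E22.sub_le fun c hc => by
      rcases List.mem_pair.1 hc with rfl | rfl
      · exact ⟨q, mem_sup_left (mem_zpowers q), hq⟩
      · exact ⟨y, mem_sup_right (mem_zpowers y), hy⟩
    refine H333.QS6.Lift.not_dvd_center_of_comm H.toStp.perfect.commutator_eq_top P ⟨⟨fun a b => Subtype.ext ?_⟩⟩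
      (((Nat.dvd_prime Nat.prime_three).1 (center_dvd H (j := 2) S2036.result)).resolve_left
        fun e => hZ (card_eq_one.1 e)).symm.dvd
    obtain ⟨a', h3, h4⟩ := h2 a.2
    obtain ⟨b', h5, h6⟩ := h2 b.2
    have h7 := C.comm_congr h4 h6
    rw [comm_sup_zpowers (mul_inv_eq_iff_eq_mul.1 (mul_inv_eq_one.1 (hz.symm.trans e))).symm a' h3 b' h5,
      mul_inv_cancel_right, mul_inv_cancel] at h7
    exact mul_inv_eq_iff_eq_mul.1 (mul_inv_eq_one.1 h7.symm)
  have y3 : y ^ 3 = 1 := by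
    have h1 : π (y ^ 3) = 1 := by rw [map_pow, hy]; exact hR.2 _ m2
    have h2 : π (u * y * u⁻¹ * y) = 1 := by
      rw [map_mul, map_mul, map_mul, map_inv, hu, hy, show E22.l ci * E22.l cr * (E22.l ci)⁻¹ = (E22.l cr)⁻¹ from
        E22.inv (.c ci) (.c cr) (by decide +kernel), inv_mul_cancel]
    have h3 := Commute.mul_pow (C.cent _ h2 y⁻¹) 3
    rw [mul_inv_cancel_right, conj_pow, ← C.cent _ h1 u, mul_inv_cancel_right, C.exp _ h2, one_mul, inv_pow] at h3
    have h4 := C.exp _ h1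
    rwa [pow_succ, pow_two, show y ^ 3 * y ^ 3 = 1 from mul_eq_one_iff_eq_inv.2 h3, one_mul] at h4
  have zc : ∀ k ∈ K, k * z * k⁻¹ = z := fun k hk =>
    mul_inv_eq_of_eq_mul (congrArg Subtype.val (C.cent z z0 ⟨k, hk⟩).symm)
  have z3 : (z : Y) ^ 3 = 1 := congrArg Subtype.val (C.exp z z0)
  have zi : ∀ a ∉ K, a * z * a⁻¹ = (z : Y)⁻¹ := fun a ha => by
    obtain ⟨k, hk, h1⟩ := th_out H ha (c := g1) (by decide +kernel) (by decide +kernel) (by decide +kernel)
    have h2 : ∀ (x w : K) (c d : ℕ), π x = E22.l c → π w = E22.l d → (Wd.c c).chk g22 = true → (Wd.c d).chk g22 = true →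
        E24.l g1 * E24.l c * (E24.l g1)⁻¹ = E24.l d → π ⟨k * a * x * (k * a)⁻¹, hN.conj_mem _ x.2 _⟩ = π w :=
      fun x w c d e1 e2 e3 e4 e5 => inc_injective (by
        rw [← th_coe H, map_mul, map_mul _ (k * a), map_inv, h1, th_coe H, e1, e2,
          show inc (E22.l c) = el c from (E22.spec _ e3).2, show inc (E22.l d) = el d from (E22.spec _ e4).2]
        simpa only [E24_l] using e5)
    have h3 := congrArg Subtype.val (C.comm_congr
      (h2 q y cq cr hq hy (by decide +kernel) (by decide +kernel) (E24.conj (.c _) (.c _) (.c _) (by decide +kernel)))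
      (h2 y q cr cq hy hq (by decide +kernel) (by decide +kernel) (E24.conj (.c _) (.c _) (.c _) (by decide +kernel))))
    have h4 : k * (a * z * a⁻¹) * k⁻¹ = (z : Y)⁻¹ := by
      rw [hz]
      simp only [coe_mul, coe_inv] at h3 ⊢
      exact Eq.trans (by group) (h3.trans (by group))
    rw [mul_inv_eq_iff_eq_mul, ← eq_inv_mul_iff_mul_eq, ← mul_assoc] at h4
    have h5 := zc k⁻¹ (inv_mem hk)
    rw [h4, ← h5]
    nth_rewrite 1 [h5]
    group
  have z2 : (z : Y)⁻¹ = z ^ 2 := inv_eq_of_mul_eq_one_right (by rw [← pow_succ', z3])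
  have hn : cod ρ (zpowers (z : Y)) = finrank (ZMod 2) V := cod_of_fx_eq_bot (H.irr.fx_eq_bot H.faithful
    (fun g _ => (em (g ∈ K)).elim (fun h => mem_normalizer_of_pow (n := 1) ((zc g h).trans (pow_one _).symm))
      fun h => mem_normalizer_of_pow ((zi g h).trans z2))
    (fun e => z1 (Subtype.ext (zpowers_eq_bot.1 e))))
  have h12 : 12 ≤ finrank (ZMod 2) V := by
    have h1 := heis_cod_eq (ρ := ρ) (y := y) (z := z) (q := q) (congrArg Subtype.val (C.cent z z0 y).symm)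
      (congrArg Subtype.val (C.cent z z0 q).symm) (congrArg Subtype.val (show q * y * q⁻¹ = y * z by
        rw [← C.cent z z0 y, hz, inv_mul_cancel_right])) Nat.prime_three (by decide) (congrArg Subtype.val y3) z3
    have h2 := two_dvd_cod (ρ := ρ) z3
    obtain ⟨x, -, -, h3, h4, -⟩ := C.dat (dat22 E22)
    have h5 := cases_eleven H.faithful (x := (x : Y)) (congrArg Subtype.val h3) fun e => h4 (Subtype.ext e)
    have h6 := cod_le_finrank (ρ := ρ) (zpowers (x : Y))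
    omega
  obtain ⟨a, ha, haK⟩ := SetLike.not_le_iff_exists.1 hK
  obtain ⟨r, g0, g1, g2⟩ := hA.exists_card
  have g3 := card_of_index (index_two H S2062.result hK) hK
  have g4 := elemAb_of_le hA.1 (inf_le_left (b := K))
  have g5 := le22 H _ inf_le_right g4
  have h1 := cod_sup_add_inf (ρ := ρ) A (A.map (MulAut.conj (z : Y)).toMonoidHom)
  have h2 : cod ρ (A ⊓ K) ≤ cod ρ (A ⊓ A.map (MulAut.conj (z : Y)).toMonoidHom) := cod_mono fun b hb =>
    ⟨hb.1, b, hb.1, mul_inv_eq_of_eq_mul (mul_inv_eq_iff_eq_mul.1 (zc b hb.2)).symm⟩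
  have h3 := XL.cod_le_of_mem (ρ := ρ) (mul_mem_sup ha (show z * a * (z : Y)⁻¹ ∈ A.map (MulAut.conj (z : Y)).toMonoidHom
    from ⟨a, ha, rfl⟩))
  rw [show a * (z * a * (z : Y)⁻¹) = z by
    rw [← mul_assoc, ← mul_assoc, mul_inv_eq_iff_eq_mul.1 (zi a haK), mul_assoc _ a a, ← pow_two, hA.1.2 a ha, mul_one,
      ← mul_inv_rev, ← pow_two, ← z2, inv_inv], hn] at h3
  rw [cod_conj] at h1
  obtain ⟨r, rfl⟩ : ∃ s, r = s + 1 := ⟨r - 1, by omega⟩
  rw [g1, pow_succ] at g3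
  have h4 : r ≤ 4 := (Nat.pow_le_pow_iff_right one_lt_two).1 (by omega)
  exact ⟨_, inf_le_right, off_of_le g4 (r := r) (by omega) (by omega) (by omega)⟩

end Cfsg.Agent.TwoF.SpA.M22

namespace Cfsg.Agent.TwoF.SpA

theorem rowM22 (p : ℕ) [Fact p.Prime] : Row p Spor.M22 := by
  by_cases h : p = 2
  · subst h
    exact row_of_key fun Y _ _ V _ _ _ K ρ π φ H => ⟨fun A hA hK => (em (Subgroup.center K = ⊥)).elim
      (fun h => M22.key_one H h hA hK) fun h => M22.key_three H h hA hK, fun B => M22.cub22 H⟩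
  · exact row_odd24 h _ M22.E22.inj S2062.result.dvd

end Cfsg.Agent.TwoF.SpA
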