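import Cfsg.Agent.TwoF.SpA.Pt
import Cfsg.Agent.H399.Gen.PairsM24
import Cfsg.Agent.H334.Ore.M23
import Cfsg.Agent.H733.EP.MCent
import Cfsg.Agent.S2037
import Cfsg.Agent.S2038
import Cfsg.Agent.S2060
import Cfsg.Agent.S2063
import Cfsg.Agent.S2064

/-!
# TwoF SP-A: the rows `M11`, `M23`, `M24` (helper86)
-/

set_option autoImplicit false

namespace Cfsg.Agent.TwoF.SpA

open Cfsg Module Gen Subgroup
open SporadicA.GolayBase SporadicA.GolayPerm SporadicStructure.M24El H729.Trans H729.MData H729.Count
open J4.M24InvolData (P1 P2)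

/-- the tables of elements of `M22` -/
def g22 (c : ℕ) : Bool := Nat.beq (papp c 23) 23 && Nat.beq (papp c 0) 0

/-- order 11 -/
def cx : ℕ := 961331994228015734230210538401924384
/-- order 5 -/
def cy : ℕ := 965129078198647342506919066949953568
/-- inverts `cy` -/
def ct : ℕ := 971833682212383564744611475376015392
/-- generators of the group of an octad -/
def gO : List ℕ := [956827830979578909122992877756665536, 958572087258221335466802466369198688,
  959343326376155661073924564280087200, 963480890888731968732817348222067264]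
/-- its elements -/
def LO : List ℕ := [956827830979578909122992877756665536, 958572087258221335466802466369198688,
  959343326376155661073924564280087200, 961371847108530530539303909288119744, 963480890888731968732817348222067264,
  964738521620414375563984741982610752, 966158389308529030942218518639679904, 967415563219785829743497253673672192,
  969119267058609576570987380683784416, 972932217723957916728105504479693056, 973662282954993102379918393154851968,
  976704800380817189629205540512213280, 979179303860389796141219522509255872, 980234526417279051990584612315661376,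
  983560131021948119402835186027640928, 984818244535754528103549039458486304]
/-- generators of the group of a tetrad -/
def gD : List ℕ := [959343326376155661073924564280087200, 959657915335457096287053162966886816,
  959823939071994704882402347086186784, 965823287528192349793434105431984800]
/-- its elements -/
def LD : List ℕ := [959343326376155661073924564280087200, 959657915335457096287053162966886816,
  959823939071994704882402347086186784, 960150551291455030601277714960422944, 965823287528192349793434105431984800,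
  966158389308529030942218518639679904, 966316884125651324823030022216880416, 966638655381185409036361429435295776,
  976212164424819255319484583859460768, 976539006901119804582877792120867232, 976704800380817189629205540512213280,
  977019619596958848382348384257970208, 984003106939601692373614345582652064, 984324647938295553064945932004594080,
  984483373012258070472260851719051552, 984818244535754528103549039458486304]
/-- order 5, normalises the group of the tetrad -/
def yD : ℕ := 964594178777358266643794163916027584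

/-- restriction of the admissible tables -/
def Emb.mono {G : Type*} [Group G] {g g' : ℕ → Bool} (E : Emb G g) (h : ∀ c, g' c = true → g c = true) : Emb G g' :=
  ⟨E.ψ, E.inj, fun c h1 h2 => E.ex c h1 (h c h2)⟩

section

variable {G : Type*} [Group G] (E : Emb G g22)

theorem x11 : E.l cx ^ 11 = 1 := E.pow _ _ (by decide +kernel)
theorem x1 : E.l cx ≠ 1 := E.ne_one (.c _) (by decide +kernel)
theorem y5 : E.l cy ^ 5 = 1 := E.pow _ _ (by decide +kernel)
theorem y1 : E.l cy ≠ 1 := E.ne_one (.c _) (by decide +kernel)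
theorem yx : E.l cy * E.l cx * (E.l cy)⁻¹ = E.l cx ^ 3 := E.conj (.c _) (.c _) (.pw (.c _) 3) (by decide +kernel)
theorem t2 : E.l ct ^ 2 = 1 := E.pow _ _ (by decide +kernel)
theorem t1 : E.l ct ≠ 1 := E.ne_one (.c _) (by decide +kernel)
theorem ty : E.l ct * E.l cy * (E.l ct)⁻¹ = (E.l cy)⁻¹ := E.inv (.c _) (.c _) (by decide +kernel)
include E in
theorem dat22 : Dat G := ⟨_, _, _, x11 E, x1 E, y5 E, yx E, t2 E, t1 E, ty E⟩
theorem elO : IsElementaryAbelian 2 (E.sub gO) := E.elemAb_sub 2 gO (by decide +kernel)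
theorem elD : IsElementaryAbelian 2 (E.sub gD) := E.elemAb_sub 2 gD (by decide +kernel)
theorem memO : ∀ c ∈ LO, E.l c ∈ E.sub gO := E.mem_of_prods (by decide +kernel)
theorem memD : ∀ c ∈ LD, E.l c ∈ E.sub gD := E.mem_of_prods (by decide +kernel)
theorem lstO : Emb.lst g22 LO = true := by decide +kernel

variable [Finite G] {V : Type*} [AddCommGroup V] [Module (ZMod 2) V] [Finite V] {ρ : Representation (ZMod 2) G V}

omit [Finite V] in
theorem offO (h : cod ρ (E.sub gO) ≤ 8) : Off 2 ρ (E.sub gO) :=
  off_of_le (elO E) (r := 4) (by norm_num) (E.length_le lstO (memO E)) h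

/-- in dimension at most 12 one of the two groups of order 16 is an offender -/
theorem off_OD [Nontrivial V] (hn : finrank (ZMod 2) V ≤ 12) {y : G} (hy : y ^ 5 = 1)
    (h1 : y ∈ normalizer (E.sub gO : Set G)) (h : fx ρ (closure {y, E.l yD}) = ⊥) :
    Off 2 ρ (E.sub gO) ∨ Off 2 ρ (E.sub gD) :=
  (off_or hn (elemAb_isPGroup (elO E)) (elemAb_isPGroup (elD E))
    (E.sub_le fun c hc => E.norm_sub (memO E) c (List.all_eq_true.1 (by decide +kernel :
      (gD.all fun y => gO.all fun a => LO.any fun c => ((Wd.c y).mul (.c a)).chk g22 &&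
        (((Wd.c c).mul (.c y)).chk g22 && Nat.beq (pcomp y a) (pcomp c y))) = true) c hc))
    hy (E.pow yD 5 (by decide +kernel)) h1 (E.norm_sub (memD E) yD (by decide +kernel)) h).imp (offO E)
    (off_of_le (elD E) (r := 4) (by norm_num) (E.length_le (L := LD) (by decide +kernel) (memD E)))

end

theorem fx_cm {k Y V : Type*} [Field k] [Group Y] [AddCommGroup V] [Module k V] {ρ : Representation k Y V}
    (hf : Function.Injective ρ) (hi : Irr ρ ⊤) (N : Subgroup Y) [N.Normal] (h : N ≠ ⊥) :
    fx ρ N = ⊥ ∧ cm ρ ⊤ N = ⊤ ∧ Nontrivial V := by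
  have h0 : (⊤ : Subgroup Y) ≤ normalizer (N : Set Y) := by rw [normalizer_eq_top]
  have h1 := hi.fx_eq_bot hf h0 h
  have h2 : fx ρ N ≠ ⊤ := fun e => h (eq_bot_of_fx_eq_top hf e)
  exact ⟨h1, (hi _ (inv_cm h0 (inv_top _))).resolve_left fun e => h2 (top_le_iff.1 (cm_eq_bot_iff.1 e)),
    Submodule.nontrivial_iff _ |>.1 ⟨_, _, h1 ▸ h2⟩⟩

/-! ### `M11`, `M23` -/

theorem rowM11 (p : ℕ) [Fact p.Prime] : Row p Spor.M11 := by
  by_cases h : p = 2
  · subst h
    exact row_of_card (by rw [S2060.result]; norm_num) fun B hB =>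
      card_map_of_injective (K := B) (inclusion_injective (inf_le_left : Spor.M11 ≤ Spor.M12)) ▸
        rank_twelve (elemAb_map hB _)
  · exact row_odd24 h _ (inclusion_injective (inf_le_left.trans inf_le_left : Spor.M11 ≤ M24))
      (by rw [S2060.result]; norm_num)

/-- the embedding of `M23` -/
noncomputable def E23 : Emb Spor.M23 g22 := ⟨H334.Ore.M23.inc23, H334.Ore.M23.inc23_injective, fun c h1 h2 =>
  H334.Ore.M23.hmem c h1 fun b hb => by
    rw [show b = 23 by simpa [H334.Ore.M23Data.F] using hb]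
    exact Nat.eq_of_beq_eq_true (Bool.and_eq_true_iff.1 h2).1⟩

theorem rowM23 (p : ℕ) [Fact p.Prime] : Row p Spor.M23 := by
  by_cases h : p = 2
  · subst h
    have : Finite Spor.M23 := Finite.of_injective _ E23.inj
    refine SpB.row_of_core S2063.result S2037.result (fun d h _ => Nat.dvd_one.1 h) fun V _ _ _ ρ hf _ A hA =>
      ⟨A, hA, cub_of_oneCl hf (dat22 E23) (fun s t h1 h2 h3 h4 =>
        H733.EP.invol23 (orderOf_eq_prime h1 h2) (orderOf_eq_prime h3 h4)) hA ?_⟩
    rw [← card_map_of_injective (K := A) E23.inj]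
    exact fix_le (elemAb_map hA.1 _) (p := none) (by rintro _ ⟨b, -, rfl⟩; exact b.2.2)
  · exact row_odd24 h _ E23.inj (by rw [S2063.result]; norm_num)

/-! ### `M24` -/

/-- the elements of `M22` in `M24` -/
noncomputable def E24' : Emb M24 g22 := E24.mono fun _ _ => rfl

theorem fix_zero {c : ℕ} (h : (Wd.c c).chk g22 = true) : E24'.l c • pt 0 = pt 0 := by
  obtain ⟨h1, h2⟩ := Bool.and_eq_true_iff.1 h
  rw [show E24'.l c = el c from E24_l c, el_smul_pt h1, idx_pt (by norm_num),
    Nat.eq_of_beq_eq_true (Bool.and_eq_true_iff.1 h2).2]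

theorem gen24 : closure {E24.l H399.Gen.PairsM24.x1, E24.l H399.Gen.PairsM24.y1} = ⊤ := by
  rw [E24_l, E24_l]; exact H399.Gen.PairsM24.top1

theorem core24 : SpB.Core 2 M24 := by
  intro V _ _ _ ρ hf hi A hA
  have hx := x11 E24'
  have hx1 := x1 E24'
  have h5 := five_ge (ρ := ρ) hx hx1 (y5 E24') (yx E24')
  have h6 := cod_le_of_inv (ρ := ρ) Nat.prime_five (by norm_num) (y5 E24') (ty E24')
  have h7 : ∀ s, IsConj s (el P1) → cod ρ (zpowers s) = cod ρ (zpowers (E24'.l ct)) := fun s hs => cod_eq_of_isConj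
    (hs.trans (kind_of_fix (t2 E24') (t1 E24') (fix_zero (by decide +kernel))).1.symm)
  have h11 : ¬ 11 ^ 2 ∣ Nat.card M24 := by rw [card24]; norm_num
  rcases cases_eleven hf hx hx1 with hc | hc
  · obtain ⟨h1, h2, h3⟩ := fx_cm hf hi ⊤ fun e => hx1 (mem_bot.1 (e ▸ mem_top _))
    have hn := dim_le_twelve (by rw [card24]; norm_num) h11 h1 h2
      (E24.gen₂ gen24 853107635277433358477393716409974921 cx
        [0, 1, 1, 1, 1, 1, 0, 1, 0, 1, 1, 1, 1, 0, 1, 0, 1, 1, 1, 0, 1, 1, 1, 0, 1, 1, 1, 1, 1, 0, 1, 1]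
        [0, 1, 1, 0, 1, 0, 1, 0, 1, 1, 1, 0, 1, 0, 1, 1, 1, 1, 0, 1, 1, 1, 0, 1, 0, 1, 0, 1, 1, 1, 0, 1, 1, 0, 1, 0,
          1, 1, 1, 1, 0, 1] (by decide +kernel))
      (E24.pow _ _ (by decide +kernel)) hx hx1 (E24.one (.pw (.mul (.c _) (.c cx)) 11) (by decide +kernel))
      (E24.ne_one (.mul (.c _) (.c cx)) (by decide +kernel)) (l := 2) (m := 6) (by norm_num)
      (E24.one (.pw (.mul (.c _) (.pw (.c cx) 2)) 5) (by decide +kernel))
      (E24.ne_one (.mul (.c _) (.pw (.c cx) 2)) (by decide +kernel)) (y5 E24') (y1 E24') (yx E24') hc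
    have key : ∀ gl : List ℕ, (gl.all fun c => (Wd.c c).chk g22) = true → Off 2 ρ (E24'.sub gl) →
        ∃ B, Off 2 ρ B ∧ Cub ρ B := fun gl h hB => by
      have h8 : ∀ b ∈ E24'.sub gl, b • pt 0 = pt 0 := fun b hb => E24'.sub_le (H := MulAction.stabilizer M24 (pt 0))
        (fun c hc => fix_zero (List.all_eq_true.1 h c hc)) hb
      have h9 := fun s hs hs1 => h7 s (kind_of_fix (hB.1.2 s hs) hs1 (h8 s hs)).1
      obtain ⟨r, -, g1, g2⟩ := hB.exists_card
      have g3 : r ≤ 4 := (Nat.pow_le_pow_iff_right (by norm_num : 1 < 2)).1 (g1 ▸ fix_le hB.1 h8)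
      refine ⟨_, hB, ?_⟩
      by_cases hr : r ≤ 3
      · exact hB.cub (g1 ▸ Nat.pow_le_pow_right (by norm_num) hr)
      obtain rfl : r = 4 := by omega
      exact cub_of_const hB.1 g1 g2 (fun s hs hs1 => by rw [h9 s hs hs1]; omega) fun s hs u hu hs1 hu1 =>
        (h9 s hs hs1).trans (h9 u hu hu1).symm
    refine (off_OD E24' hn (E24.pow 636244311142240565192877726878715557 5 (by decide +kernel))
      (E24.norm_sub (memO E24') _ (by decide +kernel)) ?_).elim (key _ (by decide +kernel)) (key _ (by decide +kernel))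
    rw [show closure {E24.l _, E24'.l yD} = ⊤ from E24.gen₂ gen24 _ yD
      [0, 0, 1, 0, 1, 0, 0, 1, 1, 0, 0, 1, 1, 1, 0, 0, 1, 0, 1, 0, 1, 1, 0, 1]
      [0, 1, 0, 1, 0, 1, 0, 1, 1, 0, 1, 1, 1, 1, 0, 1, 0, 0, 0, 0, 1, 0, 1, 0, 1, 0] (by decide +kernel), h1]
  · refine ⟨A, hA, by_contra fun hn => ?_⟩
    obtain ⟨r, -, g1, g2⟩ := hA.exists_card
    have hw := E24.pow 676587007561912255309557497293556145 11 (by decide +kernel)
    have h8 := cod_le_of_inv (ρ := ρ) (by norm_num) (by norm_num) hw (E24.inv (.c P2) (.c _) (by decide +kernel))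
    rw [cod_eq_of_order (hp := ⟨by norm_num⟩) h11 hw (E24.ne_one (.c _) (by decide +kernel)) hx hx1] at h8
    have h9 : ∀ s, IsConj s (el P2) → 10 ≤ cod ρ (zpowers s) := fun s hs => by
      rw [cod_eq_of_isConj hs, ← E24_l]
      exact Nat.le_of_mul_le_mul_left (hc.trans h8) two_pos
    obtain ⟨⟨d, hd⟩, hd1⟩ := ne_bot_iff_exists_ne_one.1 hA.2.1
    have g3 := cod_add_three_le_of_not_cub hA.1 hn hd
    have g4 : 6 ≤ r := by
      rcases kinds (hA.1.2 d hd) (fun e => hd1 (Subtype.ext e)) with h | h
      · have := h7 d h.1; omega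
      · have := h9 d h.1; omega
    obtain ⟨e, he, he1, he2⟩ : ∃ e ∈ A, e ≠ 1 ∧ nf e ≠ 8 := by
      by_contra! h
      have := (Nat.pow_le_pow_right two_pos g4).trans (g1 ▸ pure_le h)
      omega
    have g5 := h9 e ((kinds (hA.1.2 e he) he1).resolve_left fun h => he2 h.2).1
    have g6 := cod_add_three_le_of_not_cub hA.1 hn he
    have g7 := (Nat.pow_le_pow_right two_pos (show 7 ≤ r by omega)).trans_lt (g1 ▸ rank_six hA.1)
    omega

theorem rowM24 (p : ℕ) [Fact p.Prime] : Row p M24 := by
  by_cases h : p = 2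
  · subst h
    exact SpB.row_of_core S2064.result S2038.result (fun d h _ => Nat.dvd_one.1 h) core24
  · exact row_odd24 h _ E24.inj (by rw [S2064.result]; norm_num)

end Cfsg.Agent.TwoF.SpA
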