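import Cfsg.Agent.TwoF.SpA.M24
import Cfsg.Agent.Involutions.NormalFour

/-!
# TwoF SP-A: restriction to `K`, groups with two outer classes (helper86)
-/

set_option autoImplicit false

namespace Cfsg.Agent.TwoF.SpA

open Cfsg Module Gen Subgroup
open SporadicA.GolayBase SporadicA.GolayPerm SporadicStructure.M24El

theorem Emb.gen_of {G : Type*} [Group G] {g : ℕ → Bool} (E : Emb G g) {M : Subgroup (Equiv.Perm GolayPt)} {X Y : ℕ}
    (hX : (Wd.c X).chk g = true) (hY : (Wd.c Y).chk g = true)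
    (h : closure {(el X : Equiv.Perm GolayPt), (el Y : Equiv.Perm GolayPt)} = M)
    (hM : ∀ x, (E.ψ x : Equiv.Perm GolayPt) ∈ M) : closure {E.l X, E.l Y} = ⊤ := by
  refine top_le_iff.1 fun x _ => ?_
  have h1 : (M24.subtype.comp E.ψ) x ∈ (closure {E.l X, E.l Y}).map (M24.subtype.comp E.ψ) := by
    rw [MonoidHom.map_closure, Set.image_pair, MonoidHom.comp_apply _ _ (E.l X), MonoidHom.comp_apply _ _ (E.l Y),
      show E.ψ (E.l X) = el X from (E.spec _ hX).2, show E.ψ (E.l Y) = el Y from (E.spec _ hY).2]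
    exact h ▸ hM x
  exact (mem_map_iff_mem (f := M24.subtype.comp E.ψ) (M24.subtype_injective.comp E.inj)).1 h1

theorem Emb.not_dvd {G : Type*} [Group G] {g : ℕ → Bool} (E : Emb G g) {n : ℕ} (h : ¬ n ∣ 244823040) :
    ¬ n ∣ Nat.card G := fun e => h (card24 ▸ e.trans (card_dvd_of_injective E.ψ E.inj))

theorem coe_el_eq {c : ℕ} {X : Equiv.Perm GolayPt} (h : ok c = true) (h' : ∀ p, pt (papp c (idx p)) = X p) :
    (el c : Equiv.Perm GolayPt) = X := by
  rw [coe_el h]; exact Equiv.ext h'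

section

variable {Y : Type} [Group Y] [Finite Y] {V : Type} [AddCommGroup V] [Module (ZMod 2) V] [Finite V]
  {K : Subgroup Y} {ρ : Representation (ZMod 2) Y V}

omit [Finite Y] [Finite V] in
theorem res_facts (H : Stp 2 K ρ) : fx (ρ.comp K.subtype : Representation (ZMod 2) K V) ⊤ = ⊥ ∧
    cm (ρ.comp K.subtype : Representation (ZMod 2) K V) ⊤ ⊤ = ⊤ ∧ Nontrivial V := by
  have := H.normal
  obtain ⟨h1, h2, h3⟩ := fx_cm H.faithful H.irr K H.K_ne_bot
  refine ⟨by rw [fx_comp, ← MonoidHom.range_eq_map, range_subtype, h1], top_le_iff.1 (h2.ge.trans ?_), h3⟩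
  exact cm_le_iff.2 fun b hb v hv => mem_cm (ρ := ρ.comp K.subtype) (mem_top ⟨b, hb⟩) hv

omit [Finite Y] [Finite V] in
theorem off_res {B : Subgroup K} (h : Off 2 (ρ.comp K.subtype : Representation (ZMod 2) K V) B) :
    ∃ B ≤ K, Off 2 ρ B := ⟨_, map_subtype_le B, SpB.off_map _ K.subtype_injective h⟩

omit [Finite Y] [Finite V] in
theorem cod_res (x : K) : cod (ρ.comp K.subtype : Representation (ZMod 2) K V) (zpowers x) = cod ρ (zpowers (x : Y)) := by
  rw [cod_comp, MonoidHom.map_zpowers]; rfl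

omit [Finite Y] in
/-- three conjugates of `A` -/
theorem three_conj {A : Subgroup Y} {t s g h : Y} (ht : t ∈ A) (hs : s ∈ A) (hg : g * t * g⁻¹ = t)
    (hh : h * t * h⁻¹ = s) : cod ρ (zpowers (g * s * g⁻¹ * (h * s * h⁻¹))) + cod ρ (zpowers t) + cod ρ (zpowers s) ≤
      3 * cod ρ A := by
  have m : ∀ (g : Y) {a}, a ∈ A → g * a * g⁻¹ ∈ A.map (MulAut.conj g).toMonoidHom := fun g a ha => ⟨a, ha, rfl⟩
  have h1 := cod_sup_add_inf (ρ := ρ) A (A.map (MulAut.conj g).toMonoidHom)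
  have h2 := cod_sup_add_inf (ρ := ρ) (A ⊔ A.map (MulAut.conj g).toMonoidHom) (A.map (MulAut.conj h).toMonoidHom)
  have h3 := XL.cod_le_of_mem (ρ := ρ) (mem_inf.2 ⟨ht, hg ▸ m g ht⟩)
  have h4 := XL.cod_le_of_mem (ρ := ρ) (mem_inf.2 ⟨mem_sup_left (T := A.map (MulAut.conj g).toMonoidHom) hs,
    hh ▸ m h ht⟩)
  have h5 := XL.cod_le_of_mem (ρ := ρ) (mul_mem_sup (mem_sup_right (S := A) (m g hs)) (m h hs))
  rw [cod_conj] at h1 h2
  omega

omit [Finite Y] in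
theorem card_of_index {A : Subgroup Y} (h : K.index = 2) (hA : ¬ A ≤ K) : Nat.card A = 2 * Nat.card ↥(A ⊓ K) := by
  have := normal_of_index_eq_two h
  have h1 : (K.subgroupOf A).index = 2 := ((Nat.dvd_prime Nat.prime_two).1
    (h ▸ relIndex_dvd_index_of_normal K A)).resolve_left fun e => hA (relIndex_eq_one.1 e)
  rw [← (K.subgroupOf A).card_mul_index, h1, mul_comm, ← inf_subgroupOf_left,
    Nat.card_congr (subgroupOfEquivOfLe inf_le_left).toEquiv]

/-- a `2`-subgroup centralises an involution of a normal subgroup of even order -/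
theorem exists_cent [K.Normal] {A : Subgroup Y} (hA : IsElementaryAbelian 2 A) {u : Y} (hu : u ∈ K) (h2 : u ^ 2 = 1)
    (h1 : u ≠ 1) : ∃ t ∈ K, t ^ 2 = 1 ∧ t ≠ 1 ∧ (∀ a ∈ A, a * t = t * a) ∧ (t ∈ A ∨ A ⊓ K = ⊥) := by
  by_cases h : A ⊓ K = ⊥
  · obtain ⟨P, hP⟩ := (elemAb_isPGroup hA).exists_le_sylow
    obtain ⟨Q, hQ⟩ := (elemAb_isPGroup (elemAb_zpowers h2)).exists_le_sylow
    obtain ⟨g, rfl⟩ := MulAction.exists_smul_eq Y Q P
    obtain ⟨t, h3, h4, h5⟩ := Involutions.NormalFour.exists_mem_center_of_normal (g • Q).2 (K.subgroupOf _)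
      (ne_bot_iff_exists_ne_one.2 ⟨⟨⟨g * u * g⁻¹, smul_mem_pointwise_smul u (MulAut.conj g) _ (hQ (mem_zpowers u))⟩,
        ‹K.Normal›.conj_mem u hu g⟩, fun e => h1 (conj_eq_one_iff.1 (congrArg (·.1.1) e))⟩)
    refine ⟨t, h3, congrArg Subtype.val (orderOf_dvd_iff_pow_eq_one.1 h5.dvd : t ^ 2 = 1), fun e => ?_,
      fun a ha => congrArg Subtype.val (mem_center_iff.1 h4 ⟨a, hP ha⟩), Or.inr h⟩
    rw [show t = 1 from Subtype.ext e, orderOf_one] at h5
    omega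
  · obtain ⟨⟨t, ht⟩, h3⟩ := ne_bot_iff_exists_ne_one.1 h
    exact ⟨t, ht.2, hA.2 t ht.1, fun e => h3 (Subtype.ext e), fun a ha => elemAb_comm hA ha ht.1, Or.inl ht.1⟩

variable {S : Type} [Group S] {π : K →* S} {φ : Y →* MulAut S}

omit [Finite Y] [Finite V] in
theorem index_two (H : Sit 2 K ρ π φ) (ho : Nat.card (Out S) = 2) {A : Subgroup Y} (hA : ¬ A ≤ K) : K.index = 2 :=
  ((Nat.dvd_prime Nat.prime_two).1 (ho ▸ H.toFrm.index_dvd)).resolve_left fun e => hA (index_eq_one.1 e ▸ le_top)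

omit [Finite V] in
theorem center_dvd (H : Sit 2 K ρ π φ) {j m : ℕ} (hm : HasCyclicSchurMultiplier S (2 ^ j * m)) :
    Nat.card (center K) ∣ m := Nat.Coprime.dvd_of_dvd_mul_left
  (((Nat.Prime.coprime_iff_not_dvd Nat.prime_two).2 H.cop).symm.pow_right j)
  (H.toFrm.card_center_dvd' H.toStp.perfect hm)

omit [Finite Y] [Finite V] in
theorem cv_of (H : Sit 2 K ρ π φ) (h : Nat.card (center K) ∣ 3) : Cv π where
  surj := H.surj
  cent z hz g := (mem_center_iff.1 (H.ker_π ▸ hz : z ∈ center K) g).symm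
  exp z hz := orderOf_dvd_iff_pow_eq_one.1 ((orderOf_dvd_natCard _ (H.ker_π ▸ hz : z ∈ center K)).trans h)

end

theorem Cv.comm_congr {K S : Type*} [Group K] [Group S] {π : K →* S} (C : Cv π) {a b a' b' : K} (ha : π a = π a')
    (hb : π b = π b') : a * b * a⁻¹ * b⁻¹ = a' * b' * a'⁻¹ * b'⁻¹ := by
  obtain ⟨u, rfl⟩ : ∃ u, a = u * a' := ⟨a * a'⁻¹, by group⟩
  obtain ⟨w, rfl⟩ : ∃ w, b = w * b' := ⟨b * b'⁻¹, by group⟩
  have hu := C.cent u (by simpa using ha)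
  have hw := C.cent w (by simpa using hb)
  calc u * a' * (w * b') * (u * a')⁻¹ * (w * b')⁻¹ = u * (a' * (w * b') * a'⁻¹) * u⁻¹ * b'⁻¹ * w⁻¹ := by group
    _ = a' * (w * (b' * a'⁻¹ * b'⁻¹)) * w⁻¹ := by rw [hu]; group
    _ = _ := by rw [hw]; group

end Cfsg.Agent.TwoF.SpA
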